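import Cfsg.Agent.Lib.PermComp.Chain

/-!
# Certificates for the subgroup of index 100 (generated by `tools/ssgen.py`)
-/

set_option linter.constructorNameAsVariable false

namespace Cfsg.Agent.Lib.J2Ico.CertU

open Cfsg.Agent.Lib.PermComp


def p100_n : Nat := nat_lit 100
def p100_w : Nat := nat_lit 9
def p100_mask : Nat := nat_lit 511
def p100_L : Nat := nat_lit 900
def p100_maskL : Nat := nat_lit 0xfffffffffffffffffffffffffffffffffffffffffffffffffffffffffffffffffffffffffffffffffffffffffffffffffffffffffffffffffffffffffffffffffffffffffffffffffffffffffffffffffffffffffffffffffffffffffffffffffffffffffffffffffffffffffffffffff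
def p100_idc : Nat := nat_lit 0x31988c2602f978ba5c2d968b2582b958aa5429948a250279389a4c259289248239188a442190882401f8f87a3c1d8e872381b8d86a34198c86230178b85a2c158a85228138984a241188842200f8783a1c0d86832180b8582a14098482210078381a0c058281208038180a04018080200

def p324_n : Nat := nat_lit 324
def p324_w : Nat := nat_lit 9
def p324_mask : Nat := nat_lit 511
def p324_L : Nat := nat_lit 2916
def p324_maskL : Nat := nat_lit 0xfffffffffffffffffffffffffffffffffffffffffffffffffffffffffffffffffffffffffffffffffffffffffffffffffffffffffffffffffffffffffffffffffffffffffffffffffffffffffffffffffffffffffffffffffffffffffffffffffffffffffffffffffffffffffffffffffffffffffffffffffffffffffffffffffffffffffffffffffffffffffffffffffffffffffffffffffffffffffffffffffffffffffffffffffffffffffffffffffffffffffffffffffffffffffffffffffffffffffffffffffffffffffffffffffffffffffffffffffffffffffffffffffffffffffffffffffffffffffffffffffffffffffffffffffffffffffffffffffffffffffffffffffffffffffffffffffffffffffffffffffffffffffffffffffffffffffffffffffffffffffffffffffffffffffffffffffffffffffffffffffffffffffffffffffffffffffffffffffffffffffffffffffffffffffffffffffffffffffffffffffffffffff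
def p324_idc : Nat := nat_lit 0xa1d0a83409fcfa7b3c9dcea73389bcda6b3499cca633097cba5b2c95caa532893c9a4b2491c8a43208fc7a3b1c8dc6a33188bc5a2b1489c4a231087c3a1b0c85c2a130883c1a0b0481c0a03007fbf9fafc7dbe9f2f87bbd9eaf479bc9e2f077bb9daec75ba9d2e873b99cae471b89c2e06fb79badc6db69b2d86bb59aad469b49a2d067b399acc65b2992c863b198ac461b0982c05faf97abc5dae972b85bad96ab459ac962b057ab95aac55aa952a853a994aa451a8942a04fa793a9c4da6932984ba592a9449a49229047a391a8c45a29128843a190a8441a0902803f9f8fa7c3d9e8f2783b9d8ea74399c8e270379b8da6c359a8d26833998ca6431988c2602f978ba5c2d968b2582b958aa5429948a250279389a4c259289248239188a442190882401f8f87a3c1d8e872381b8d86a34198c86230178b85a2c158a85228138984a241188842200f8783a1c0d86832180b8582a14098482210078381a0c058281208038180a04018080200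

def g100_T_0 : Nat := nat_lit 0x3118cc26024950ba5c20968a03f2b15c7a5e299489c59239449a421a8d0be31279185c2d16130b62a2c0a0aa3c1188848381b878964a0e8c8901c0d91488430c900303e0b0982a391d8e826120f8d866301783856290b89c4a0b108801e10088681a050a0181204018281808038080001
def g100_T_1 : Nat := nat_lit 0x3194cbc492f98496422193c8c40241287c54310e8a2502d0dc9a4c2e958c057239645e442d9705658149544e24129487221270c06a31198c86836228684c19208607e161e8b4763c0a08870200f844200f070b8582a0b8a01623098243c1d0e06c0a0c0a81024030301c1a0a040000202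
def g100_T_2 : Nat := nat_lit 0x2f1889a592f98c8e5a2d970c03f2b8f4aa5429918a2381b904c235221008a3e2e948924b218ac9c4a2c120ac3c198bc4250278c0981d1d8c838361d0b8322c2108c4e1e14898401b1504c72250f8a06831120685a1506048300a110581007030381a170205006110803c040b048140200
def g100_T_3 : Nat := nat_lit 0x31970aa6025920ba622c1007e5b1f110c23b1d1087041219386c4c2f928665e178b88a5627948a05a2c95c7a342a14c4e51101343a3c24870463023918501b158a8342d1c8544a14188884237088786a32160a41a0c0b82c4c24048483e100781432180b0282607040081c01000180803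
def g100_T : List Nat := [g100_T_0, g100_T_1, g100_T_2, g100_T_3]
def g100_prog : List (Nat × Nat × Nat) := [(nat_lit 1, nat_lit 3, nat_lit 0), (nat_lit 1, nat_lit 3, nat_lit 0), (nat_lit 1, nat_lit 2, nat_lit 0), (nat_lit 1, nat_lit 4, nat_lit 0), (nat_lit 0, nat_lit 6, nat_lit 5), (nat_lit 0, nat_lit 0, nat_lit 8), (nat_lit 0, nat_lit 0, nat_lit 7), (nat_lit 0, nat_lit 6, nat_lit 0), (nat_lit 0, nat_lit 8, nat_lit 8), (nat_lit 0, nat_lit 0, nat_lit 9), (nat_lit 0, nat_lit 11, nat_lit 11), (nat_lit 0, nat_lit 0, nat_lit 13), (nat_lit 0, nat_lit 0, nat_lit 13), (nat_lit 0, nat_lit 11, nat_lit 0), (nat_lit 0, nat_lit 17, nat_lit 17), (nat_lit 0, nat_lit 0, nat_lit 15), (nat_lit 0, nat_lit 0, nat_lit 18), (nat_lit 0, nat_lit 0, nat_lit 20), (nat_lit 0, nat_lit 0, nat_lit 19), (nat_lit 0, nat_lit 0, nat_lit 19), (nat_lit 0, nat_lit 0, nat_lit 20), (nat_lit 0, nat_lit 0, nat_lit 24), (nat_lit 0, nat_lit 20, nat_lit 19), (nat_lit 0, nat_lit 0, nat_lit 1), (nat_lit 0, nat_lit 18, nat_lit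 27), (nat_lit 0, nat_lit 23, nat_lit 0), (nat_lit 0, nat_lit 11, nat_lit 28), (nat_lit 0, nat_lit 0, nat_lit 27), (nat_lit 0, nat_lit 0, nat_lit 29), (nat_lit 0, nat_lit 0, nat_lit 30), (nat_lit 0, nat_lit 0, nat_lit 32), (nat_lit 0, nat_lit 0, nat_lit 34), (nat_lit 0, nat_lit 0, nat_lit 33), (nat_lit 0, nat_lit 0, nat_lit 34), (nat_lit 0, nat_lit 0, nat_lit 35), (nat_lit 0, nat_lit 0, nat_lit 37), (nat_lit 0, nat_lit 34, nat_lit 32), (nat_lit 0, nat_lit 0, nat_lit 36), (nat_lit 0, nat_lit 0, nat_lit 35), (nat_lit 0, nat_lit 0, nat_lit 37), (nat_lit 0, nat_lit 0, nat_lit 4), (nat_lit 0, nat_lit 31, nat_lit 44), (nat_lit 0, nat_lit 0, nat_lit 43), (nat_lit 0, nat_lit 0, nat_lit 43), (nat_lit 0, nat_lit 0, nat_lit 46), (nat_lit 0, nat_lit 0, nat_lit 46), (nat_lit 0, nat_lit 0, nat_lit 46), (nat_lit 0, nat_lit 0, nat_lit 48), (nat_lit 0, nat_lit 45, nat_lit 44), (nat_lit 0, nat_lit 0, nat_lit 46), (nat_lit 0, nat_lit 0, nat_lit 49), (nat_lit 0, nat_lit 0, nat_lit 47), (nat_lit 0, nat_lit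 0, nat_lit 4), (nat_lit 1, nat_lit 45, nat_lit 0), (nat_lit 1, nat_lit 13, nat_lit 0), (nat_lit 1, nat_lit 2, nat_lit 0), (nat_lit 1, nat_lit 42, nat_lit 0), (nat_lit 1, nat_lit 33, nat_lit 0), (nat_lit 0, nat_lit 17, nat_lit 17), (nat_lit 0, nat_lit 0, nat_lit 35), (nat_lit 0, nat_lit 0, nat_lit 52), (nat_lit 0, nat_lit 0, nat_lit 35), (nat_lit 0, nat_lit 0, nat_lit 21), (nat_lit 0, nat_lit 0, nat_lit 39), (nat_lit 0, nat_lit 0, nat_lit 56), (nat_lit 0, nat_lit 39, nat_lit 57), (nat_lit 0, nat_lit 0, nat_lit 13), (nat_lit 0, nat_lit 0, nat_lit 14), (nat_lit 0, nat_lit 0, nat_lit 44), (nat_lit 0, nat_lit 0, nat_lit 43), (nat_lit 0, nat_lit 15, nat_lit 14), (nat_lit 0, nat_lit 0, nat_lit 15), (nat_lit 0, nat_lit 0, nat_lit 18), (nat_lit 0, nat_lit 0, nat_lit 3), (nat_lit 0, nat_lit 50, nat_lit 33), (nat_lit 0, nat_lit 19, nat_lit 19), (nat_lit 0, nat_lit 50, nat_lit 35), (nat_lit 0, nat_lit 0, nat_lit 36), (nat_lit 0, nat_lit 0, nat_lit 54), (nat_lit 0, nat_lit 0, nat_lit 65), (nat_lit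 0, nat_lit 0, nat_lit 56), (nat_lit 0, nat_lit 0, nat_lit 67), (nat_lit 0, nat_lit 0, nat_lit 58), (nat_lit 0, nat_lit 59, nat_lit 59), (nat_lit 0, nat_lit 0, nat_lit 58), (nat_lit 0, nat_lit 0, nat_lit 77), (nat_lit 0, nat_lit 0, nat_lit 78), (nat_lit 0, nat_lit 0, nat_lit 46), (nat_lit 0, nat_lit 0, nat_lit 35), (nat_lit 0, nat_lit 0, nat_lit 36), (nat_lit 0, nat_lit 14, nat_lit 0), (nat_lit 0, nat_lit 77, nat_lit 50), (nat_lit 0, nat_lit 0, nat_lit 78), (nat_lit 0, nat_lit 0, nat_lit 40), (nat_lit 0, nat_lit 0, nat_lit 70), (nat_lit 0, nat_lit 0, nat_lit 81), (nat_lit 0, nat_lit 0, nat_lit 72), (nat_lit 0, nat_lit 0, nat_lit 83), (nat_lit 0, nat_lit 27, nat_lit 0), (nat_lit 0, nat_lit 46, nat_lit 46), (nat_lit 0, nat_lit 0, nat_lit 47), (nat_lit 0, nat_lit 0, nat_lit 93), (nat_lit 0, nat_lit 0, nat_lit 94), (nat_lit 0, nat_lit 0, nat_lit 62), (nat_lit 0, nat_lit 0, nat_lit 80), (nat_lit 0, nat_lit 0, nat_lit 81), (nat_lit 0, nat_lit 0, nat_lit 53), (nat_lit 0, nat_lit 0, nat_lit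 93), (nat_lit 0, nat_lit 36, nat_lit 51), (nat_lit 0, nat_lit 0, nat_lit 1), (nat_lit 0, nat_lit 44, nat_lit 86), (nat_lit 0, nat_lit 0, nat_lit 58), (nat_lit 0, nat_lit 0, nat_lit 59), (nat_lit 0, nat_lit 0, nat_lit 99), (nat_lit 0, nat_lit 38, nat_lit 60), (nat_lit 0, nat_lit 0, nat_lit 60), (nat_lit 0, nat_lit 0, nat_lit 2), (nat_lit 0, nat_lit 42, nat_lit 93), (nat_lit 0, nat_lit 0, nat_lit 77), (nat_lit 0, nat_lit 0, nat_lit 105), (nat_lit 0, nat_lit 43, nat_lit 96), (nat_lit 0, nat_lit 0, nat_lit 95), (nat_lit 0, nat_lit 0, nat_lit 98), (nat_lit 0, nat_lit 0, nat_lit 70), (nat_lit 0, nat_lit 0, nat_lit 98), (nat_lit 0, nat_lit 0, nat_lit 101), (nat_lit 0, nat_lit 55, nat_lit 0), (nat_lit 0, nat_lit 86, nat_lit 119), (nat_lit 0, nat_lit 0, nat_lit 75), (nat_lit 0, nat_lit 0, nat_lit 103), (nat_lit 0, nat_lit 0, nat_lit 77), (nat_lit 0, nat_lit 0, nat_lit 78), (nat_lit 0, nat_lit 0, nat_lit 91), (nat_lit 0, nat_lit 57, nat_lit 75), (nat_lit 0, nat_lit 0, nat_lit 1), (nat_lit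 1, nat_lit 44, nat_lit 0), (nat_lit 1, nat_lit 26, nat_lit 0), (nat_lit 0, nat_lit 1, nat_lit 0), (nat_lit 0, nat_lit 55, nat_lit 39), (nat_lit 0, nat_lit 0, nat_lit 48), (nat_lit 0, nat_lit 0, nat_lit 5), (nat_lit 0, nat_lit 0, nat_lit 76), (nat_lit 0, nat_lit 0, nat_lit 22), (nat_lit 0, nat_lit 0, nat_lit 23), (nat_lit 0, nat_lit 0, nat_lit 27), (nat_lit 0, nat_lit 0, nat_lit 80), (nat_lit 0, nat_lit 0, nat_lit 19), (nat_lit 0, nat_lit 0, nat_lit 73), (nat_lit 0, nat_lit 0, nat_lit 38), (nat_lit 0, nat_lit 11, nat_lit 0)]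
def g100_s0 : Nat := nat_lit 0x3118cc26024950ba5c20968a03f2b15c7a5e299489c59239449a421a8d0be31279185c2d16130b62a2c0a0aa3c1188848381b878964a0e8c8901c0d91488430c900303e0b0982a391d8e826120f8d866301783856290b89c4a0b108801e10088681a050a0181204018281808038080001
def g100_s1 : Nat := nat_lit 0x2f184a8130d94ca24c1b91c8c180b0a068623188832592d0b09a2d2182c1c0f279409242158989c10150446239240f0745f1a928b615148c8382710980b84125874121e0a1107c522b89034400f9587e3d1c0bcba120088caa30171604a201d91418051b01866030501c1a080205c0400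
def g100_s2 : Nat := nat_lit 0x2f15cb0062d98c2246171481e4d2a0f4c45529970be0b051387e401c8b49203041688a21130bc821930824ac1a2611084040a01c94161a8b02e102594466321d06044050990c36270a894562407008240c148f07634140a83a471008c9e481c07c1a1e301746c371f1406259180700200
def g100_s3 : Nat := nat_lit 0x110e8781019890c0530d8349e2c118ec6839291702647028843e63248943a14061685454071885e19218c494261390888091c044be151a934161e0c100bc1a228acb6482b1847a2d0b13024511903c9636149605c410b95caa2810138385d180fc8c501f0286e0803818b204018080200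
noncomputable def g100_lev0 : Core.Lev := Core.mkLev p100_n p100_w p100_mask p100_L p100_maskL p100_idc (nat_lit 0) [g100_s3, g100_s2, g100_s1, g100_s0] [(nat_lit 1, g100_s0, nat_lit 0), (nat_lit 2, g100_s1, nat_lit 1), (nat_lit 28, g100_s2, nat_lit 2), (nat_lit 23, g100_s1, nat_lit 2), (nat_lit 54, g100_s3, nat_lit 28), (nat_lit 12, g100_s2, nat_lit 28), (nat_lit 61, g100_s1, nat_lit 28), (nat_lit 48, g100_s0, nat_lit 28), (nat_lit 40, g100_s2, nat_lit 23), (nat_lit 17, g100_s3, nat_lit 54), (nat_lit 7, g100_s2, nat_lit 54), (nat_lit 74, g100_s1, nat_lit 54), (nat_lit 30, g100_s0, nat_lit 54), (nat_lit 80, g100_s3, nat_lit 12), (nat_lit 5, g100_s1, nat_lit 12), (nat_lit 86, g100_s2, nat_lit 61), (nat_lit 49, g100_s1, nat_lit 61), (nat_lit 85, g100_s0, nat_lit 61), (nat_lit 16, g100_s2, nat_lit 48), (nat_lit 39, g100_s1, nat_lit 48), (nat_lit 72, g100_s3, nat_lit 40), (nat_lit 62, g100_s0, nat_lit 40), (nat_lit 79, g100_s2, nat_lit 17), (nat_lit 37, g100_s1, nat_lit 17), (nat_lit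 15, g100_s0, nat_lit 17), (nat_lit 10, g100_s1, nat_lit 7), (nat_lit 3, g100_s0, nat_lit 7), (nat_lit 45, g100_s2, nat_lit 74), (nat_lit 11, g100_s1, nat_lit 74), (nat_lit 52, g100_s0, nat_lit 74), (nat_lit 71, g100_s3, nat_lit 80), (nat_lit 89, g100_s1, nat_lit 80), (nat_lit 13, g100_s1, nat_lit 5), (nat_lit 59, g100_s3, nat_lit 86), (nat_lit 87, g100_s0, nat_lit 86), (nat_lit 98, g100_s2, nat_lit 85), (nat_lit 93, g100_s3, nat_lit 16), (nat_lit 32, g100_s1, nat_lit 16), (nat_lit 19, g100_s2, nat_lit 39), (nat_lit 20, g100_s1, nat_lit 39), (nat_lit 22, g100_s0, nat_lit 39), (nat_lit 9, g100_s2, nat_lit 62), (nat_lit 90, g100_s1, nat_lit 79), (nat_lit 27, g100_s2, nat_lit 37), (nat_lit 21, g100_s0, nat_lit 37), (nat_lit 56, g100_s2, nat_lit 15), (nat_lit 6, g100_s1, nat_lit 10), (nat_lit 4, g100_s1, nat_lit 3), (nat_lit 94, g100_s3, nat_lit 45), (nat_lit 51, g100_s2, nat_lit 45), (nat_lit 92, g100_s1, nat_lit 45), (nat_lit 68, g100_s0, nat_lit 45), (nat_lit 96, g100_s2, nat_lit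 11), (nat_lit 8, g100_s2, nat_lit 71), (nat_lit 70, g100_s1, nat_lit 89), (nat_lit 76, g100_s2, nat_lit 59), (nat_lit 35, g100_s0, nat_lit 59), (nat_lit 84, g100_s2, nat_lit 87), (nat_lit 58, g100_s3, nat_lit 98), (nat_lit 97, g100_s1, nat_lit 98), (nat_lit 99, g100_s0, nat_lit 98), (nat_lit 81, g100_s1, nat_lit 93), (nat_lit 36, g100_s2, nat_lit 32), (nat_lit 64, g100_s1, nat_lit 32), (nat_lit 18, g100_s0, nat_lit 32), (nat_lit 46, g100_s1, nat_lit 19), (nat_lit 33, g100_s0, nat_lit 19), (nat_lit 42, g100_s2, nat_lit 22), (nat_lit 55, g100_s3, nat_lit 9), (nat_lit 82, g100_s2, nat_lit 90), (nat_lit 41, g100_s3, nat_lit 27), (nat_lit 47, g100_s0, nat_lit 27), (nat_lit 29, g100_s2, nat_lit 21), (nat_lit 95, g100_s1, nat_lit 56), (nat_lit 83, g100_s1, nat_lit 94), (nat_lit 53, g100_s3, nat_lit 51), (nat_lit 66, g100_s1, nat_lit 68), (nat_lit 57, g100_s3, nat_lit 84), (nat_lit 60, g100_s1, nat_lit 58), (nat_lit 34, g100_s0, nat_lit 58), (nat_lit 88, g100_s2, nat_lit 97), (nat_lit 25,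 g100_s1, nat_lit 81), (nat_lit 78, g100_s0, nat_lit 81), (nat_lit 69, g100_s0, nat_lit 46), (nat_lit 43, g100_s2, nat_lit 33), (nat_lit 26, g100_s1, nat_lit 33), (nat_lit 24, g100_s2, nat_lit 42), (nat_lit 91, g100_s3, nat_lit 41), (nat_lit 75, g100_s2, nat_lit 47), (nat_lit 63, g100_s1, nat_lit 29), (nat_lit 73, g100_s0, nat_lit 95), (nat_lit 38, g100_s1, nat_lit 66), (nat_lit 44, g100_s3, nat_lit 88), (nat_lit 77, g100_s2, nat_lit 88), (nat_lit 14, g100_s0, nat_lit 26), (nat_lit 65, g100_s3, nat_lit 24), (nat_lit 67, g100_s1, nat_lit 75), (nat_lit 50, g100_s2, nat_lit 44), (nat_lit 31, g100_s3, nat_lit 77)]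
noncomputable def g100_lev1 : Core.Lev := Core.mkLev p100_n p100_w p100_mask p100_L p100_maskL p100_idc (nat_lit 1) [g100_s3, g100_s2, g100_s1] [(nat_lit 2, g100_s1, nat_lit 1), (nat_lit 28, g100_s2, nat_lit 2), (nat_lit 23, g100_s1, nat_lit 2), (nat_lit 54, g100_s3, nat_lit 28), (nat_lit 12, g100_s2, nat_lit 28), (nat_lit 61, g100_s1, nat_lit 28), (nat_lit 40, g100_s2, nat_lit 23), (nat_lit 17, g100_s3, nat_lit 54), (nat_lit 7, g100_s2, nat_lit 54), (nat_lit 74, g100_s1, nat_lit 54), (nat_lit 80, g100_s3, nat_lit 12), (nat_lit 30, g100_s2, nat_lit 12), (nat_lit 5, g100_s1, nat_lit 12), (nat_lit 86, g100_s2, nat_lit 61), (nat_lit 49, g100_s1, nat_lit 61), (nat_lit 72, g100_s3, nat_lit 40), (nat_lit 79, g100_s2, nat_lit 17), (nat_lit 37, g100_s1, nat_lit 17), (nat_lit 62, g100_s2, nat_lit 7), (nat_lit 10, g100_s1, nat_lit 7), (nat_lit 45, g100_s2, nat_lit 74), (nat_lit 11, g100_s1, nat_lit 74), (nat_lit 71, g100_s3, nat_lit 80), (nat_lit 89, g100_s1, nat_lit 80), (nat_lit 15, g100_s3,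 nat_lit 30), (nat_lit 13, g100_s1, nat_lit 5), (nat_lit 59, g100_s3, nat_lit 86), (nat_lit 20, g100_s3, nat_lit 72), (nat_lit 3, g100_s2, nat_lit 72), (nat_lit 90, g100_s1, nat_lit 79), (nat_lit 27, g100_s2, nat_lit 37), (nat_lit 9, g100_s2, nat_lit 62), (nat_lit 93, g100_s2, nat_lit 10), (nat_lit 6, g100_s1, nat_lit 10), (nat_lit 94, g100_s3, nat_lit 45), (nat_lit 51, g100_s2, nat_lit 45), (nat_lit 92, g100_s1, nat_lit 45), (nat_lit 96, g100_s2, nat_lit 11), (nat_lit 8, g100_s2, nat_lit 71), (nat_lit 70, g100_s1, nat_lit 89), (nat_lit 48, g100_s3, nat_lit 15), (nat_lit 56, g100_s2, nat_lit 15), (nat_lit 39, g100_s3, nat_lit 59), (nat_lit 76, g100_s2, nat_lit 59), (nat_lit 4, g100_s1, nat_lit 3), (nat_lit 82, g100_s2, nat_lit 90), (nat_lit 41, g100_s3, nat_lit 27), (nat_lit 55, g100_s3, nat_lit 9), (nat_lit 81, g100_s1, nat_lit 93), (nat_lit 36, g100_s3, nat_lit 94), (nat_lit 99, g100_s2, nat_lit 94), (nat_lit 83, g100_s1, nat_lit 94), (nat_lit 53, g100_s3, nat_lit 51), (nat_lit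 16, g100_s3, nat_lit 96), (nat_lit 19, g100_s1, nat_lit 96), (nat_lit 95, g100_s1, nat_lit 56), (nat_lit 64, g100_s2, nat_lit 76), (nat_lit 34, g100_s1, nat_lit 82), (nat_lit 91, g100_s3, nat_lit 41), (nat_lit 25, g100_s1, nat_lit 81), (nat_lit 32, g100_s1, nat_lit 16), (nat_lit 46, g100_s1, nat_lit 19)]
noncomputable def g100_lev2 : Core.Lev := Core.mkLev p100_n p100_w p100_mask p100_L p100_maskL p100_idc (nat_lit 2) [g100_s3, g100_s2] [(nat_lit 28, g100_s2, nat_lit 2), (nat_lit 54, g100_s3, nat_lit 28), (nat_lit 12, g100_s2, nat_lit 28), (nat_lit 17, g100_s3, nat_lit 54), (nat_lit 7, g100_s2, nat_lit 54), (nat_lit 80, g100_s3, nat_lit 12), (nat_lit 30, g100_s2, nat_lit 12), (nat_lit 79, g100_s2, nat_lit 17), (nat_lit 62, g100_s2, nat_lit 7), (nat_lit 71, g100_s3, nat_lit 80), (nat_lit 11, g100_s2, nat_lit 80), (nat_lit 15, g100_s3, nat_lit 30), (nat_lit 5, g100_s3, nat_lit 79), (nat_lit 10, g100_s2, nat_lit 79), (nat_lit 49, g100_s3, nat_lit 62), (nat_lit 9, g100_s2, nat_lit 62),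 (nat_lit 8, g100_s2, nat_lit 71), (nat_lit 96, g100_s2, nat_lit 11), (nat_lit 48, g100_s3, nat_lit 15), (nat_lit 56, g100_s2, nat_lit 15), (nat_lit 89, g100_s3, nat_lit 5), (nat_lit 93, g100_s2, nat_lit 10), (nat_lit 23, g100_s2, nat_lit 49), (nat_lit 55, g100_s3, nat_lit 9), (nat_lit 16, g100_s3, nat_lit 96), (nat_lit 6, g100_s2, nat_lit 96), (nat_lit 4, g100_s2, nat_lit 56), (nat_lit 40, g100_s2, nat_lit 23), (nat_lit 20, g100_s2, nat_lit 55), (nat_lit 72, g100_s2, nat_lit 16), (nat_lit 3, g100_s2, nat_lit 72)]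
noncomputable def g100_lev3 : Core.Lev := Core.mkLev p100_n p100_w p100_mask p100_L p100_maskL p100_idc (nat_lit 5) [g100_s3] [(nat_lit 89, g100_s3, nat_lit 5), (nat_lit 79, g100_s3, nat_lit 89)]
noncomputable def g100_levels : List Core.Lev := [g100_lev0, g100_lev1, g100_lev2, g100_lev3]

/-- The 100 subsets of size 63 of the 315 points, as a packed table of bit masks. -/
def omTbl : Nat := nat_lit 0x919495218000612a4a62000000000000000001042000ab0432880240009004530835400108202f581e6018025a40180678100000000000000003cc033c000000000990000990000000003cc033cad689a1a849000248561644000000000000000080090005520934104003000820b2412a80024004bd406018187999e1818060000000000000000000300000c00f00264f00000f26400f00300000c03331011006a10800480a080020908a54c091120044004a010a008820001046da011228900a24010100080c080800491221201029248201408114a41020090441a11840107e00020181082808280880010a2002051808200540100401214c2b00c0b0020c800041240140040800821b60b50130c00100408004015002080c5020022a194240100681806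9004001864056836c20800810014012410000982010b00000cf34cb3cc000030000000000000000000180600061803361800061b30061800180600059a10500422902040202820028128199418418010042408240882202000bd011014a2812009080102010080200004001885a6240ca01220952010d7b004010cc012c40021040100200000053508c00022a24b50000800008020124802a44214016420005692140000000900408010416802590040136c080210004206d820400120002d5280004b4b00104548ca00248002400080c0020030800b235110400020a02040028a2401410642842800241241601206008428a141001bd00202082201820181010101c0000300c00c000c0302780001867800018733800006000000794a0000b586000000060180cc0095000024120052450002150282500401829460244004015841402008101039c1500145801008080080014494009048000150148281545283004020100345001507381010200805043500400448090008209000901128080c20a24118200824418a0404a020282682020100e70401288082088204020402004010008000244a592213400c410ac00937a8020093200d20900200821000000002ca91200400108409004401284280821508a020405205880810144091a2044040036d0010900508410840800200828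08400822a40110150a2420800c44213100108a04228c4206d840100022200a400b00104008d10d2a00004000401002610056204a00a604002a584a000000400208042008a50069802008db10010090891240020206021008249284a51020402202820282103008000fc1004310b04412008100208c001129040104c000120014256244282480085401001500240102002005f81a442a8400402008020a02010204a21005044c0a40a000c10c14c008480240a29404405e80020220881208121004011e019e0002a54000798070000000000000000c303cc03000000006600006600000000c033c0c3d2c080a10a4011004810840202885428d025010081084108500484005b6001011022c4811404080010400c08c4410020212021020861a0685108060080a080a08108040801f841009129044180204080200401000100002a584582350043103280296d880200cb0052880210082001000000290d2a000800090a03082040405200202888416a148441040020501841084807e0210001048268440110101400010054020085142002289340c01004a1204a04400124c054a1b620088040014010c100003220100410420046003404049014608904010620914802140405065050200039c8200510104110421002049a5224000100080200423002c844900350800489534000000008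4100400904b004c9004015e9004044012a20801080a08008212285642111801040068012802220004010db02118a2102884004010049010160031002104101048831544823040042104410404500209ce00020505305010142008100a80004210042c2280042a0141a0080241688058800802a4828000410080b9c2a0028a4020010040120421008401a04a02025408a0210142148a00405100c4a210404006d81100c0140904090022001012101002088c40c00816184102804228580810060882522402087e004080420414041404012000212809200880405800802889052a50910400402140490409002fc8010001108329100440500010100113120088080804c0114182245a42800806000069802242f48004202002409640800288800201014816008402108120101440a944a10a021002408240a00c02206d80080821148c022808012008cb423000400008020108900a6046100952000621594000000801004108004690066100401bd010510010a2840100a80200200c0b2548121480113000020c200a0008044011b614a80c9200088010010c0405220240024104010620915460890410081044104045200839c0201010590501014808010803c0003de1ef0000f000000000000000000000078000007800052d2d2d280007800000780004f2024001020db02100042000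a55a00006969000445626800860020018080012000920029895104800809080085002620220048a442408804244a880029080230a2280004101ce402280228012810020003400404101290090c0066111008812221842100480a20592022f4120002012041100414041020041401228a001020282000a10a133412412004040c020c02208202005ec0041428a1080302400810ca4a8d080010b152530000000000000000004800110652095801002400801a904a6088001206d930003000a01400c000c2660000679800019878180018000000cc00b54a01320000001800198600a0601800180180600001f0c0000f30c0000f1980c03000000030d68000294f000000300000e6401c330cc000ccc000cc330800000000000000033066198000000000061e18000000000066198336679e0061804c32018600790000000000000000a5c3003c000000a500000000a50000003c00c3a5e1f303c0c002cd000c0f03200000000000000013260781800000000007878000000000060781933668800032080209488003106a4280041241422440200215422581fa0040040802400a800802a10008f0c00f0021e1003c00c380000000000000002d1e00618000002d000000002d00000061801e2d4f2400090080bd00810800400696900006699000215869200620002404040400200890086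9254028001000a21a1004210000a802c1402a8b41200840020128a002a1ce8080410000a092a008008d00020800420402f4040240008025a58000265980100a925840244010008080809000118012586a10200830003332ad5333000300000000000000000000600060066001e004ccc801e001980180018006964008808c801420021202204844a22a4484020102900288028804e70104000288a188021280021004020080000800056922a112a009221340143b6401004d200b4104008100480000001424b5000044001e01e0cf3078078000000000000000000000003c0003c000016969696800003c0003c00003872240011a20401064000120050352310283082015004005400300010088403f04b102a90010080800200a00008000115145540a90054016a0015e7014010550055804080402020000000a4915100400800940404082180a1200d04222801044250b0101100442c82410001080fc0242104301408004800800d01008802480a420250488a0010448528050110044a608440004009fa004810490142010002a8a606454000a89819450000000000000000080808204a80d4a040100200814ac054810404041f8203020022010c88088048a112108801211a802028480224a2202000401e70422802280068001021000f0000601800003c03e00001e01e00001f4a0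1e000000000018732cc780000000001e000b400808008c8c10081010032022824118a581400601000096401182f4120040400180698040014411009459098a80005464268a00000000000000000410104035012b01008210402035202b008202081f80082809000842b00440452884820024448190401228048a24402db10400020880284029001102022686a2520001291585900000000000000000408004413420d4021080042100ac10b208800408db21800180140280060006730000330cc0000cf0cc000c0000002640295680198000000c000c0f00100921021520080800a40400889322491108402202820088210c00040025e8410ca114042008402000c24025202080800b0040222198861112042080a08022081201000120bd1012681140480210081a8a2a2001000000500402a00d402a8015280008a8c34000000404081008100aa00aa080281ce0102021000439c400102020019a6400029568020246a09400940004108080100401600160a91a02000640202022009191001048830510200284b40222800204d20480080840025e8488032c0000c00040104044007e0044041000055550000aaaa0008981a4a005400080808080808001500a1a4260880146462600020000100901480134803200ca0400c8c2c2000000200300042080cc00b4028020fc08040408002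39c20008404002659800016a940005895068006802008010108200029002905624060000900800004000646262812c8012a053004c3f0401402d003301042000c00400000043431300020aa28a8800010000500402a009502a8005680008a8925000000040402010201aa00aa080280e740002500101004a840849004c9110022108892421004202885308217a400200030841100414044008003002000040004c48c8c0698006a01640191f810050294026500400a0004400000012524640020000000003807ff0000007f8000000000007f80000000007f802d4c9e61b35280000000000000002130020204020c4c4004062090510800a0694208a00080658060008080120bd062009a4000201400000000ffe01c00000000000001fffe000000000000000000014acd867932b401fe000000000000a01e00000c030000780043c00003fc00003c168003c0000000000f19a670c00000000003c0294010200a000000800454515c02b0054014a8015738140105500550081008102020000002c3151000040082022007e00220208000aaaa00005555001064258500a800101010101010002a0052581910802a82a46640000998950540000000000000001000408114c814c400410208008ca04ca20408002e708044044c201100103010421221445621200600058005100510839e0080010111491004850100082000098200811620009112b0280104305023040200255023483f00844020003000a800802a0108118001819da5b98180018000000000000000000300030003300c300666600c300cc000c000c00ad65415899800006646a0a8000000000000000002021008b300b208802010044134033440210100e7313123200020000400c01600196009802680402624a4800000022000500200a6402940a0081f820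

def omMask : Nat := nat_lit 0x7ffffffffffffffffffffffffffffffffffffffffffffffffffffffffffffffffffffffffffffff

def ua_T_0 : Nat := nat_lit 0x20f084092b04cba08018640e62228504c4e1f03c2063281505e111d16c960a25090724421984b0521f8b49841030c83a5e149706a4d11124a25f1614c5c342a8ac180b0e0a88027108a046370a86cae462c848b40e1c0583e300b8601a02128687a201992076010f1800a4f238c46c00
def ua_T_1 : Nat := nat_lit 0xd91082631404c7a1c0802062182b9489c12230249e5f28868aa2525958b0240191c64621f854c25d21170020e0395056141b9686c1f2d8e460220b028163a228f05c060f098bc201516492111a0e03a05011343221020bc8627260b0900d1488c660c0b83c94351d9407c2d299808000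
def ua_T : List Nat := [ua_T_0, ua_T_1]
def ua_prog : List (Nat × Nat × Nat) := [(nat_lit 1, nat_lit 1, nat_lit 0), (nat_lit 1, nat_lit 1, nat_lit 0), (nat_lit 0, nat_lit 3, nat_lit 3), (nat_lit 0, nat_lit 0, nat_lit 4), (nat_lit 0, nat_lit 0, nat_lit 5), (nat_lit 0, nat_lit 0, nat_lit 6), (nat_lit 0, nat_lit 0, nat_lit 6), (nat_lit 0, nat_lit 0, nat_lit 7), (nat_lit 0, nat_lit 0, nat_lit 9), (nat_lit 0, nat_lit 0, nat_lit 9), (nat_lit 0, nat_lit 0, nat_lit 11), (nat_lit 0, nat_lit 10, nat_lit 10), (nat_lit 0, nat_lit 0, nat_lit 10), (nat_lit 0, nat_lit 0, nat_lit 2), (nat_lit 0, nat_lit 12, nat_lit 13), (nat_lit 0, nat_lit 11, nat_lit 15), (nat_lit 0, nat_lit 0, nat_lit 16), (nat_lit 0, nat_lit 0, nat_lit 18), (nat_lit 0, nat_lit 0, nat_lit 19), (nat_lit 0, nat_lit 4, nat_lit 17), (nat_lit 0, nat_lit 0, nat_lit 19), (nat_lit 0, nat_lit 0, nat_lit 2), (nat_lit 1, nat_lit 8, nat_lit 0), (nat_lit 1, nat_lit 1, nat_lit 0), (nat_lit 0, nat_lit 2, nat_lit 2), (nat_lit 0, nat_lit 0, nat_lit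 3), (nat_lit 0, nat_lit 0, nat_lit 12), (nat_lit 0, nat_lit 4, nat_lit 0), (nat_lit 0, nat_lit 5, nat_lit 5), (nat_lit 0, nat_lit 0, nat_lit 5), (nat_lit 0, nat_lit 0, nat_lit 7), (nat_lit 0, nat_lit 9, nat_lit 17), (nat_lit 0, nat_lit 0, nat_lit 18), (nat_lit 0, nat_lit 0, nat_lit 11), (nat_lit 0, nat_lit 0, nat_lit 20), (nat_lit 0, nat_lit 0, nat_lit 21), (nat_lit 0, nat_lit 0, nat_lit 14), (nat_lit 0, nat_lit 6, nat_lit 13), (nat_lit 0, nat_lit 0, nat_lit 15), (nat_lit 0, nat_lit 0, nat_lit 16), (nat_lit 0, nat_lit 0, nat_lit 3)]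
def ua_s0 : Nat := nat_lit 0x20f084092b04cba08018640e62228504c4e1f03c2063281505e111d16c960a25090724421984b0521f8b49841030c83a5e149706a4d11124a25f1614c5c342a8ac180b0e0a88027108a046370a86cae462c848b40e1c0583e300b8601a02128687a201992076010f1800a4f238c46c00
def ua_s1 : Nat := nat_lit 0x68ac845d2517c2e19168d806412c1409c1d1707060040d8c868370b178782227900a81a17848ae331f81c70150f0e44c200309c482323154a602160c418430f92c7c012d0e86a252682c423d310508a0a238601e44300a8923b04984c6132e038225b24148202814930b256029441000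
def ua_s2 : Nat := nat_lit 0x2f1889a592f98c8e5a2d970c03f2b8f4aa5429918a2381b904c235221008a3e2e948924b218ac9c4a2c120ac3c198bc4250278c0981d1d8c838361d0b8322c2108c4e1e14898401b1504c72250f8a06831120685a1506048300a110581007030381a170205006110803c040b048140200
def ua_s3 : Nat := nat_lit 0x171149a023197c125c2b168183f271448249069187a0501954c22709100c40403948a81516058ae3b2c03cb61f198845e1708018402a250c8100b1d1784a430c08c6a1116898981b0e84c72191e028681411068524b301108428120ac385d18038a6501f0c46e1e27920b236238e00200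
noncomputable def ua_lev0 : Core.Lev := Core.mkLev p100_n p100_w p100_mask p100_L p100_maskL p100_idc (nat_lit 14) [ua_s3, ua_s2, ua_s1, ua_s0] [(nat_lit 26, ua_s0, nat_lit 14), (nat_lit 24, ua_s1, nat_lit 26), (nat_lit 18, ua_s0, nat_lit 26), (nat_lit 75, ua_s3, nat_lit 24), (nat_lit 21, ua_s2, nat_lit 24), (nat_lit 68, ua_s1, nat_lit 24), (nat_lit 43, ua_s3, nat_lit 18), (nat_lit 22, ua_s2, nat_lit 18), (nat_lit 97, ua_s1, nat_lit 18), (nat_lit 58, ua_s0, nat_lit 75), (nat_lit 66, ua_s3, nat_lit 21), (nat_lit 73, ua_s1, nat_lit 21), (nat_lit 31, ua_s0, nat_lit 21), (nat_lit 85, ua_s0, nat_lit 43), (nat_lit 42, ua_s1, nat_lit 22), (nat_lit 77, ua_s3, nat_lit 97), (nat_lit 33, ua_s3, nat_lit 58), (nat_lit 47, ua_s2, nat_lit 58), (nat_lit 57, ua_s1, nat_lit 58), (nat_lit 50, ua_s0, nat_lit 58), (nat_lit 98, ua_s3, nat_lit 73), (nat_lit 69, ua_s2, nat_lit 73), (nat_lit 60, ua_s1, nat_lit 73), (nat_lit 65, ua_s3, nat_lit 85), (nat_lit 78, ua_s1, nat_lit 85), (nat_lit 38, ua_s0, nat_lit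 85), (nat_lit 35, ua_s3, nat_lit 42), (nat_lit 52, ua_s1, nat_lit 77), (nat_lit 44, ua_s1, nat_lit 47), (nat_lit 29, ua_s0, nat_lit 57), (nat_lit 84, ua_s3, nat_lit 69), (nat_lit 87, ua_s3, nat_lit 65), (nat_lit 88, ua_s0, nat_lit 65), (nat_lit 67, ua_s3, nat_lit 44), (nat_lit 63, ua_s3, nat_lit 88)]
noncomputable def ua_lev1 : Core.Lev := Core.mkLev p100_n p100_w p100_mask p100_L p100_maskL p100_idc (nat_lit 1) [ua_s3, ua_s2, ua_s1] [(nat_lit 8, ua_s1, nat_lit 1), (nat_lit 30, ua_s3, nat_lit 8), (nat_lit 17, ua_s2, nat_lit 8), (nat_lit 40, ua_s1, nat_lit 8), (nat_lit 10, ua_s3, nat_lit 30), (nat_lit 20, ua_s1, nat_lit 30), (nat_lit 28, ua_s3, nat_lit 17), (nat_lit 99, ua_s1, nat_lit 17), (nat_lit 49, ua_s3, nat_lit 10), (nat_lit 82, ua_s1, nat_lit 10), (nat_lit 59, ua_s1, nat_lit 20), (nat_lit 46, ua_s3, nat_lit 99), (nat_lit 94, ua_s2, nat_lit 99), (nat_lit 13, ua_s1, nat_lit 99), (nat_lit 83, ua_s1, nat_lit 49), (nat_lit 70, ua_s3, nat_lit 82), (nat_lit 51, ua_s3, nat_lit 59),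 (nat_lit 95, ua_s3, nat_lit 94), (nat_lit 64, ua_s1, nat_lit 70), (nat_lit 74, ua_s3, nat_lit 51)]
noncomputable def ua_lev2 : Core.Lev := Core.mkLev p100_n p100_w p100_mask p100_L p100_maskL p100_idc (nat_lit 2) [ua_s3, ua_s2] [(nat_lit 56, ua_s3, nat_lit 2), (nat_lit 5, ua_s2, nat_lit 2), (nat_lit 23, ua_s3, nat_lit 56), (nat_lit 80, ua_s2, nat_lit 56), (nat_lit 89, ua_s3, nat_lit 5), (nat_lit 96, ua_s3, nat_lit 23), (nat_lit 12, ua_s2, nat_lit 23)]
noncomputable def ua_levels : List Core.Lev := [ua_lev0, ua_lev1, ua_lev2]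

def ub_T_0 : Nat := nat_lit 0x20f084092b04cba08018640e62228504c4e1f03c2063281505e111d16c960a25090724421984b0521f8b49841030c83a5e149706a4d11124a25f1614c5c342a8ac180b0e0a88027108a046370a86cae462c848b40e1c0583e300b8601a02128687a201992076010f1800a4f238c46c00
def ub_T_1 : Nat := nat_lit 0xd91082631404c7a1c0802062182b9489c12230249e5f28868aa2525958b0240191c64621f854c25d21170020e0395056141b9686c1f2d8e460220b028163a228f05c060f098bc201516492111a0e03a05011343221020bc8627260b0900d1488c660c0b83c94351d9407c2d299808000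
def ub_T : List Nat := [ub_T_0, ub_T_1]
def ub_prog : List (Nat × Nat × Nat) := [(nat_lit 1, nat_lit 1, nat_lit 0), (nat_lit 1, nat_lit 1, nat_lit 0), (nat_lit 0, nat_lit 3, nat_lit 2), (nat_lit 0, nat_lit 0, nat_lit 4), (nat_lit 0, nat_lit 0, nat_lit 5), (nat_lit 0, nat_lit 0, nat_lit 6), (nat_lit 0, nat_lit 0, nat_lit 6), (nat_lit 0, nat_lit 0, nat_lit 7), (nat_lit 0, nat_lit 0, nat_lit 8), (nat_lit 0, nat_lit 0, nat_lit 10), (nat_lit 0, nat_lit 0, nat_lit 10), (nat_lit 0, nat_lit 0, nat_lit 11), (nat_lit 0, nat_lit 10, nat_lit 11), (nat_lit 0, nat_lit 0, nat_lit 12), (nat_lit 0, nat_lit 0, nat_lit 13), (nat_lit 0, nat_lit 0, nat_lit 13), (nat_lit 0, nat_lit 0, nat_lit 15), (nat_lit 0, nat_lit 0, nat_lit 5), (nat_lit 0, nat_lit 19, nat_lit 19), (nat_lit 0, nat_lit 0, nat_lit 20), (nat_lit 0, nat_lit 0, nat_lit 20), (nat_lit 0, nat_lit 0, nat_lit 22), (nat_lit 0, nat_lit 0, nat_lit 22), (nat_lit 0, nat_lit 0, nat_lit 23), (nat_lit 0, nat_lit 0, nat_lit 25), (nat_lit 0, nat_lit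 0, nat_lit 25), (nat_lit 0, nat_lit 0, nat_lit 26), (nat_lit 0, nat_lit 26, nat_lit 25), (nat_lit 0, nat_lit 0, nat_lit 27), (nat_lit 0, nat_lit 0, nat_lit 2), (nat_lit 0, nat_lit 30, nat_lit 31), (nat_lit 0, nat_lit 30, nat_lit 30), (nat_lit 0, nat_lit 28, nat_lit 32), (nat_lit 0, nat_lit 0, nat_lit 33), (nat_lit 0, nat_lit 0, nat_lit 35), (nat_lit 0, nat_lit 0, nat_lit 36), (nat_lit 0, nat_lit 0, nat_lit 37), (nat_lit 0, nat_lit 5, nat_lit 35), (nat_lit 0, nat_lit 0, nat_lit 37), (nat_lit 0, nat_lit 0, nat_lit 2), (nat_lit 0, nat_lit 9, nat_lit 40), (nat_lit 0, nat_lit 0, nat_lit 42), (nat_lit 0, nat_lit 0, nat_lit 43), (nat_lit 0, nat_lit 0, nat_lit 43), (nat_lit 0, nat_lit 0, nat_lit 44), (nat_lit 0, nat_lit 0, nat_lit 46), (nat_lit 0, nat_lit 17, nat_lit 0), (nat_lit 1, nat_lit 29, nat_lit 0), (nat_lit 1, nat_lit 18, nat_lit 0), (nat_lit 0, nat_lit 9, nat_lit 31), (nat_lit 0, nat_lit 0, nat_lit 3), (nat_lit 0, nat_lit 0, nat_lit 11), (nat_lit 0, nat_lit 0, nat_lit 12), (nat_lit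 0, nat_lit 0, nat_lit 13), (nat_lit 0, nat_lit 0, nat_lit 36), (nat_lit 0, nat_lit 7, nat_lit 6), (nat_lit 0, nat_lit 0, nat_lit 1)]
def ub_s0 : Nat := nat_lit 0x20f084092b04cba08018640e62228504c4e1f03c2063281505e111d16c960a25090724421984b0521f8b49841030c83a5e149706a4d11124a25f1614c5c342a8ac180b0e0a88027108a046370a86cae462c848b40e1c0583e300b8601a02128687a201992076010f1800a4f238c46c00
def ub_s1 : Nat := nat_lit 0x1108c86300d890105c201680c3c1c8ec7434290346604140bc5825090b854370e14c3a4430908425e0f80c94582f9248a3e05174324e31868a0072a04c4e4d0c1544002260385a5b20944c4291f964ae172b0986a4b078582a601e8ac7031238c88c48278303c050a0246c100882c0200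
def ub_s2 : Nat := nat_lit 0x110e8781019890c0530d8349e2c118ec6839291702647028843e63248943a14061685454071885e19218c494261390888091c044be151a934161e0c100bc1a228acb6482b1847a2d0b13024511903c9636149605c410b95caa2810138385d180fc8c501f0286e0803818b204018080200
noncomputable def ub_lev0 : Core.Lev := Core.mkLev p100_n p100_w p100_mask p100_L p100_maskL p100_idc (nat_lit 1) [ub_s2, ub_s1, ub_s0] [(nat_lit 54, ub_s0, nat_lit 1), (nat_lit 17, ub_s2, nat_lit 54), (nat_lit 93, ub_s1, nat_lit 54), (nat_lit 92, ub_s0, nat_lit 54), (nat_lit 28, ub_s2, nat_lit 17), (nat_lit 56, ub_s1, nat_lit 17), (nat_lit 13, ub_s0, nat_lit 17), (nat_lit 96, ub_s2, nat_lit 93), (nat_lit 8, ub_s1, nat_lit 93), (nat_lit 83, ub_s2, nat_lit 92), (nat_lit 23, ub_s1, nat_lit 28), (nat_lit 70, ub_s0, nat_lit 28), (nat_lit 9, ub_s2, nat_lit 56), (nat_lit 62, ub_s1, nat_lit 56), (nat_lit 94, ub_s0, nat_lit 56), (nat_lit 61, ub_s0, nat_lit 13), (nat_lit 16, ub_s2, nat_lit 96), (nat_lit 48, ub_s1, nat_lit 96), (nat_lit 5,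 ub_s1, nat_lit 8), (nat_lit 82, ub_s2, nat_lit 83), (nat_lit 15, ub_s1, nat_lit 23), (nat_lit 90, ub_s2, nat_lit 70), (nat_lit 36, ub_s0, nat_lit 70), (nat_lit 55, ub_s2, nat_lit 9), (nat_lit 30, ub_s1, nat_lit 9), (nat_lit 59, ub_s0, nat_lit 9), (nat_lit 49, ub_s2, nat_lit 62), (nat_lit 3, ub_s1, nat_lit 62), (nat_lit 45, ub_s0, nat_lit 62), (nat_lit 19, ub_s0, nat_lit 94), (nat_lit 74, ub_s2, nat_lit 61), (nat_lit 76, ub_s0, nat_lit 61), (nat_lit 2, ub_s0, nat_lit 16), (nat_lit 7, ub_s1, nat_lit 48), (nat_lit 95, ub_s0, nat_lit 48), (nat_lit 89, ub_s2, nat_lit 5), (nat_lit 71, ub_s1, nat_lit 15), (nat_lit 37, ub_s0, nat_lit 15), (nat_lit 25, ub_s0, nat_lit 90), (nat_lit 91, ub_s1, nat_lit 36), (nat_lit 39, ub_s0, nat_lit 36), (nat_lit 10, ub_s1, nat_lit 55), (nat_lit 41, ub_s0, nat_lit 55), (nat_lit 27, ub_s0, nat_lit 30), (nat_lit 6, ub_s0, nat_lit 59), (nat_lit 11, ub_s2, nat_lit 49), (nat_lit 80, ub_s1, nat_lit 49), (nat_lit 81, ub_s0, nat_lit 49), (nat_lit 46, ub_s0, nat_lit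 45), (nat_lit 32, ub_s2, nat_lit 19), (nat_lit 99, ub_s2, nat_lit 76), (nat_lit 20, ub_s1, nat_lit 7), (nat_lit 51, ub_s2, nat_lit 95), (nat_lit 86, ub_s0, nat_lit 95), (nat_lit 79, ub_s2, nat_lit 89), (nat_lit 12, ub_s2, nat_lit 71), (nat_lit 64, ub_s0, nat_lit 37), (nat_lit 53, ub_s1, nat_lit 25), (nat_lit 72, ub_s0, nat_lit 10), (nat_lit 4, ub_s1, nat_lit 80), (nat_lit 34, ub_s2, nat_lit 99), (nat_lit 40, ub_s2, nat_lit 20)]
noncomputable def ub_lev1 : Core.Lev := Core.mkLev p100_n p100_w p100_mask p100_L p100_maskL p100_idc (nat_lit 2) [ub_s2, ub_s1] [(nat_lit 11, ub_s1, nat_lit 2), (nat_lit 62, ub_s2, nat_lit 11), (nat_lit 79, ub_s1, nat_lit 11), (nat_lit 49, ub_s2, nat_lit 62), (nat_lit 3, ub_s1, nat_lit 62), (nat_lit 5, ub_s2, nat_lit 79), (nat_lit 40, ub_s1, nat_lit 79), (nat_lit 80, ub_s1, nat_lit 49), (nat_lit 17, ub_s1, nat_lit 3), (nat_lit 89, ub_s2, nat_lit 5), (nat_lit 54, ub_s1, nat_lit 5), (nat_lit 72, ub_s2, nat_lit 40), (nat_lit 71, ub_s2, nat_lit 80), (nat_lit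 4, ub_s1, nat_lit 80), (nat_lit 28, ub_s2, nat_lit 17), (nat_lit 56, ub_s1, nat_lit 17), (nat_lit 6, ub_s1, nat_lit 89), (nat_lit 93, ub_s1, nat_lit 54), (nat_lit 20, ub_s2, nat_lit 72), (nat_lit 55, ub_s1, nat_lit 72), (nat_lit 12, ub_s2, nat_lit 71), (nat_lit 16, ub_s1, nat_lit 4), (nat_lit 23, ub_s1, nat_lit 28), (nat_lit 9, ub_s2, nat_lit 56), (nat_lit 96, ub_s2, nat_lit 93), (nat_lit 8, ub_s1, nat_lit 93), (nat_lit 10, ub_s1, nat_lit 55), (nat_lit 15, ub_s1, nat_lit 23), (nat_lit 30, ub_s1, nat_lit 9), (nat_lit 48, ub_s1, nat_lit 96), (nat_lit 7, ub_s1, nat_lit 48)]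
noncomputable def ub_lev2 : Core.Lev := Core.mkLev p100_n p100_w p100_mask p100_L p100_maskL p100_idc (nat_lit 5) [ub_s2] [(nat_lit 89, ub_s2, nat_lit 5), (nat_lit 79, ub_s2, nat_lit 89)]
noncomputable def ub_levels : List Core.Lev := [ub_lev0, ub_lev1, ub_lev2]

def d324_T_0 : Nat := nat_lit 0x3b3f1331d45ca95b2c6fad4fcd647b8d26e55948566725620a4cda78a7d8c715c205ae85894bded0c5e44d81166e1d5c0ed69be8fb0d37230d4909c39976db64b41393d8acd18666a0bfda2965f9e9a4889d39e1ec480b2e40ce3e27a7e7082a02128492b1653368e50d94744ac51613351500eefe7ab3534ec533e554b73fcdd069439a6e78f09941a630a6ca1d4279579962ede5a355533071390d31052cecdb0285c660f1a77a74ce973da265cf4663acdf037c2d91b2335c452318541a1486c9133dd0c879ae90d277ec79d4a095cb57c7874ab984647baf5152860b7563354c46d47429cc39c2928047ddca76a239f6ab9f3ca08c7842e648d8020f084092b04cba08018640e62228504c4e1f03c2063281505e111d16c960a25090724421984b0521f8b49841030c83a5e149706a4d11124a25f1614c5c342a8ac180b0e0a88027108a046370a86cae462c848b40e1c0583e300b8601a02128687a201992076010f1800a4f238c46c00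
def d324_T_1 : Nat := nat_lit 0x703152e6e4c9b6490c4fba5c69e4c2752d30939b24ae293384de9c7e4ed72f65dbd4d0b36b469fed55d351709535bd0d2fe353f5eed3631f9907c9bc659e8966a2e273a564e598c99c3a9147d6731d107f322ca0b4283d0568f391250cf218348208d25bd016a665b196871f77b45528655a1667183db2de47a551e551129b21268f19abc10e78524b94d2c6e310ef093ac2dd0df91b78e8a76ea6e152d3b296112f40441050e75b411f1546c5d94ee993b51883762b62d0f47206291172289cca0944358671609ce632b4d4a980e794b6ce4a161394e0a36d24a073d484797afa80cf97ef97c2be390058cf1b2be8ec09b0bc7db5d60915724e7f1b0d91082631404c7a1c0802062182b9489c12230249e5f28868aa2525958b0240191c64621f854c25d21170020e0395056141b9686c1f2d8e460220b028163a228f05c060f098bc201516492111a0e03a05011343221020bc8627260b0900d1488c660c0b83c94351d9407c2d299808000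
def d324_T : List Nat := [d324_T_0, d324_T_1]
def d324_prog : List (Nat × Nat × Nat) := [(nat_lit 1, nat_lit 1, nat_lit 0), (nat_lit 1, nat_lit 1, nat_lit 0), (nat_lit 0, nat_lit 2, nat_lit 2), (nat_lit 0, nat_lit 0, nat_lit 4), (nat_lit 0, nat_lit 0, nat_lit 5), (nat_lit 0, nat_lit 0, nat_lit 6), (nat_lit 0, nat_lit 0, nat_lit 6), (nat_lit 0, nat_lit 5, nat_lit 6), (nat_lit 0, nat_lit 0, nat_lit 7), (nat_lit 0, nat_lit 0, nat_lit 8), (nat_lit 0, nat_lit 0, nat_lit 8), (nat_lit 0, nat_lit 0, nat_lit 10), (nat_lit 0, nat_lit 0, nat_lit 5), (nat_lit 0, nat_lit 14, nat_lit 14), (nat_lit 0, nat_lit 0, nat_lit 15), (nat_lit 0, nat_lit 0, nat_lit 16), (nat_lit 0, nat_lit 0, nat_lit 16), (nat_lit 0, nat_lit 0, nat_lit 17), (nat_lit 0, nat_lit 0, nat_lit 19), (nat_lit 0, nat_lit 0, nat_lit 20), (nat_lit 0, nat_lit 0, nat_lit 21), (nat_lit 0, nat_lit 0, nat_lit 21), (nat_lit 0, nat_lit 0, nat_lit 23), (nat_lit 0, nat_lit 0, nat_lit 24), (nat_lit 0, nat_lit 16, nat_lit 22), (nat_lit 0, nat_lit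 0, nat_lit 24), (nat_lit 0, nat_lit 0, nat_lit 24), (nat_lit 0, nat_lit 0, nat_lit 26), (nat_lit 0, nat_lit 0, nat_lit 26), (nat_lit 0, nat_lit 0, nat_lit 5), (nat_lit 1, nat_lit 17, nat_lit 0), (nat_lit 1, nat_lit 1, nat_lit 0), (nat_lit 0, nat_lit 2, nat_lit 19), (nat_lit 0, nat_lit 0, nat_lit 20), (nat_lit 0, nat_lit 0, nat_lit 4), (nat_lit 0, nat_lit 0, nat_lit 22), (nat_lit 0, nat_lit 0, nat_lit 6), (nat_lit 0, nat_lit 0, nat_lit 24), (nat_lit 0, nat_lit 0, nat_lit 8), (nat_lit 0, nat_lit 8, nat_lit 7), (nat_lit 0, nat_lit 0, nat_lit 9), (nat_lit 0, nat_lit 0, nat_lit 10), (nat_lit 0, nat_lit 0, nat_lit 10), (nat_lit 0, nat_lit 0, nat_lit 4)]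
def d324_s0 : Nat := nat_lit 0x3b3f1331d45ca95b2c6fad4fcd647b8d26e55948566725620a4cda78a7d8c715c205ae85894bded0c5e44d81166e1d5c0ed69be8fb0d37230d4909c39976db64b41393d8acd18666a0bfda2965f9e9a4889d39e1ec480b2e40ce3e27a7e7082a02128492b1653368e50d94744ac51613351500eefe7ab3534ec533e554b73fcdd069439a6e78f09941a630a6ca1d4279579962ede5a355533071390d31052cecdb0285c660f1a77a74ce973da265cf4663acdf037c2d91b2335c452318541a1486c9133dd0c879ae90d277ec79d4a095cb57c7874ab984647baf5152860b7563354c46d47429cc39c2928047ddca76a239f6ab9f3ca08c7842e648d8020f084092b04cba08018640e62228504c4e1f03c2063281505e111d16c960a25090724421984b0521f8b49841030c83a5e149706a4d11124a25f1614c5c342a8ac180b0e0a88027108a046370a86cae462c848b40e1c0583e300b8601a02128687a201992076010f1800a4f238c46c00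
def d324_s1 : Nat := nat_lit 0x559d1cabe45279bef3974fa1eac3647e6c8f503ad226778cc4fe9686c6cd28b97c115e825fb19c30a90bb583307e1ba7115382ea474041aa9bb1d4e1adfd3c4738e690b801f9a4efa12b576cc9d43148655bb461d297ab266b093c9cd20b967298ccfb65409c8de83a05acea46a89c0f73da6d80d895c6a6e8553c0e287d4c33cd0ae6849552766d2d666a36438932727cce4c8874d3525b063baf64f3b3522596dc5c3ea2e9779310ea9f6ac61628036ada513f50bd21120591e1d8c3421f1d34138a4a39055439a272491231ecc77e9e9aeee884a8de9559bc2031649b36871243295b6f8962c18ad393251cebc8f4c9109d61365ff19742d27b112f9387e482b0b838522f11860612496c8a4106970c63e18954b03b17894c4470f168a839130e8ae29268dca21a138542c361413c80441010cc05d090f494321092c2659120b0442d21130301b070e056501a87c662a0888c68070c87406040b8f0a60a010240c1007814100c058500200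
def d324_s2 : Nat := nat_lit 0x48338e6b995256206f55295f0866dcd9411f479a22ada402c5ab185a445d13d3a2f956e567b8642c685225b86a65be8f30577b4a007e5f9ca7f2836ad9bc8485cd11ce369b1658b04b1fde3314db60f6c08619674a464c25eb358e45131033eb6632c27fcb9706e9dc9ceebd513dd1ae0992763c88339e186b276411052f57a6678e4491c5d3414fce1c4c899a8d07027735dfa7a3b2a5a1258950d26cd879b27cac3e3f9d4d683a05232b5e39e4c9443991f3399042142f48da2e1a6975aba2d0159bc16a75a048ce0ba63bda448c35a71bb1d333294cfb834b534d4623ca2e9760bf1db309244d50e6662ee84ad68ca56f0e4f3cd14df9ba9e3485261084c5d1a8b42052149180a1a0b09c2a442e14c400c2c84864220e8f496282803456391f8e8302e0702c4a612b188a8370487066552f87c7c0f2086448581511436141d8f0945e2b98c9c13268c092112d8b0802f0b88c6848288846c600f10cb447188287008038189e04018080200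
noncomputable def d324_lev0 : Core.Lev := Core.mkLev p324_n p324_w p324_mask p324_L p324_maskL p324_idc (nat_lit 1) [d324_s2, d324_s1, d324_s0] [(nat_lit 54, d324_s0, nat_lit 1), (nat_lit 28, d324_s2, nat_lit 54), (nat_lit 79, d324_s1, nat_lit 54), (nat_lit 92, d324_s0, nat_lit 54), (nat_lit 17, d324_s2, nat_lit 28), (nat_lit 80, d324_s1, nat_lit 28), (nat_lit 70, d324_s0, nat_lit 28), (nat_lit 89, d324_s2, nat_lit 79), (nat_lit 49, d324_s1, nat_lit 79), (nat_lit 82, d324_s2, nat_lit 92), (nat_lit 8, d324_s0, nat_lit 92), (nat_lit 3, d324_s1, nat_lit 17), (nat_lit 13, d324_s0, nat_lit 17), (nat_lit 12, d324_s2, nat_lit 80), (nat_lit 62, d324_s1, nat_lit 80), (nat_lit 99, d324_s0, nat_lit 80), (nat_lit 90, d324_s1, nat_lit 70), (nat_lit 36, d324_s0, nat_lit 70), (nat_lit 5, d324_s2, nat_lit 89), (nat_lit 48, d324_s1, nat_lit 89), (nat_lit 7, d324_s0, nat_lit 89), (nat_lit 96, d324_s1, nat_lit 49), (nat_lit 81, d324_s0, nat_lit 49), (nat_lit 83, d324_s2, nat_lit 82), (nat_lit 15,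 d324_s0, nat_lit 82), (nat_lit 16, d324_s1, nat_lit 8), (nat_lit 11, d324_s1, nat_lit 3), (nat_lit 71, d324_s0, nat_lit 3), (nat_lit 61, d324_s0, nat_lit 13), (nat_lit 10, d324_s1, nat_lit 12), (nat_lit 32, d324_s0, nat_lit 12), (nat_lit 55, d324_s1, nat_lit 62), (nat_lit 45, d324_s0, nat_lit 62), (nat_lit 76, d324_s2, nat_lit 99), (nat_lit 95, d324_s1, nat_lit 99), (nat_lit 4, d324_s0, nat_lit 99), (nat_lit 25, d324_s0, nat_lit 90), (nat_lit 94, d324_s2, nat_lit 36), (nat_lit 39, d324_s0, nat_lit 36), (nat_lit 93, d324_s1, nat_lit 48), (nat_lit 30, d324_s0, nat_lit 7), (nat_lit 72, d324_s1, nat_lit 96), (nat_lit 9, d324_s0, nat_lit 96), (nat_lit 23, d324_s1, nat_lit 15), (nat_lit 37, d324_s0, nat_lit 15), (nat_lit 2, d324_s0, nat_lit 16), (nat_lit 51, d324_s0, nat_lit 11), (nat_lit 74, d324_s0, nat_lit 71), (nat_lit 19, d324_s2, nat_lit 32), (nat_lit 27, d324_s1, nat_lit 32), (nat_lit 40, d324_s1, nat_lit 55), (nat_lit 41, d324_s0, nat_lit 55), (nat_lit 46, d324_s0, nat_lit 45),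 (nat_lit 34, d324_s2, nat_lit 76), (nat_lit 59, d324_s1, nat_lit 76), (nat_lit 53, d324_s2, nat_lit 95), (nat_lit 86, d324_s1, nat_lit 95), (nat_lit 64, d324_s2, nat_lit 25), (nat_lit 56, d324_s1, nat_lit 30), (nat_lit 6, d324_s1, nat_lit 9), (nat_lit 20, d324_s1, nat_lit 2), (nat_lit 91, d324_s0, nat_lit 74)]
noncomputable def d324_lev1 : Core.Lev := Core.mkLev p324_n p324_w p324_mask p324_L p324_maskL p324_idc (nat_lit 2) [d324_s2, d324_s1] [(nat_lit 20, d324_s1, nat_lit 2), (nat_lit 72, d324_s2, nat_lit 20), (nat_lit 7, d324_s1, nat_lit 20), (nat_lit 40, d324_s2, nat_lit 72), (nat_lit 71, d324_s1, nat_lit 72), (nat_lit 15, d324_s1, nat_lit 7), (nat_lit 89, d324_s1, nat_lit 40), (nat_lit 80, d324_s2, nat_lit 71), (nat_lit 30, d324_s1, nat_lit 71), (nat_lit 23, d324_s1, nat_lit 15), (nat_lit 5, d324_s2, nat_lit 89), (nat_lit 48, d324_s1, nat_lit 89), (nat_lit 12, d324_s2, nat_lit 80), (nat_lit 62, d324_s1, nat_lit 80), (nat_lit 56, d324_s1, nat_lit 30), (nat_lit 17, d324_s1, nat_lit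 23), (nat_lit 79, d324_s2, nat_lit 5), (nat_lit 8, d324_s1, nat_lit 5), (nat_lit 93, d324_s1, nat_lit 48), (nat_lit 10, d324_s1, nat_lit 12), (nat_lit 11, d324_s2, nat_lit 62), (nat_lit 55, d324_s1, nat_lit 62), (nat_lit 54, d324_s1, nat_lit 56), (nat_lit 3, d324_s1, nat_lit 17), (nat_lit 49, d324_s1, nat_lit 79), (nat_lit 16, d324_s1, nat_lit 8), (nat_lit 28, d324_s1, nat_lit 93), (nat_lit 9, d324_s1, nat_lit 10), (nat_lit 96, d324_s1, nat_lit 49), (nat_lit 4, d324_s1, nat_lit 16), (nat_lit 6, d324_s1, nat_lit 9)]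
noncomputable def d324_lev2 : Core.Lev := Core.mkLev p324_n p324_w p324_mask p324_L p324_maskL p324_idc (nat_lit 5) [d324_s2] [(nat_lit 79, d324_s2, nat_lit 5), (nat_lit 89, d324_s2, nat_lit 79)]
noncomputable def d324_levels : List Core.Lev := [d324_lev0, d324_lev1, d324_lev2]

def t324 : List (Nat × Nat × Nat) := [(ua_T_0, nat_lit 0x92606ab913b1892c83d9443472159fc5e81272f49e0e240798476468ecc40d2a074e6215732d24a82c2bcb8b23c044f88937a5832a9050a00c2c6a208ae77329b070d958b40be026ea6cda322d858dc246b20d56604e99d786a0c0e9b60c508714a20609858ad25c37ccc1018ac098cf1f370269a489a46c88212548c530db4c3e30078ddb08c672899aa63a88c7a1525805667a281c48acc3f2000aac20b5c129e53ad546b6458e406330b89594903421c169f4a14852bf03ab45ab42201080085f1ad08644795844c34cae90c3c63b24b41442928bc00499644cc42e9e49ad11a2dc7ede6aaa8fa2e4e2ed1443380a92e476d2394063521558074, d324_T_0), (ua_T_1, nat_lit 0x3e184660a1a82580a81da14fe3a1a0e464cc61821827e611f416384c35caa922ba44084f392d936712b1c0a83103a400a9a03265266f31068c81869ad4d6253489d5ed624354d0656a2184c193518c481b0013942de51b74a08f5f0c006bd512f1406e29b70a20229005bebb459b48a22238859eb40b99d1c162305488ae69081a08d68a3046142032884c83c18026a508a9d087b5f9e820433c8dd4cc90910548cb0e2b03caa439b056b114acccc8a67224501f4412564ab1507560ad400f9043c622a4be0d2e83d9ac71b318b883629dc1c3d2f204183f3b0b93ed9162e8b2964eb68b6954a12d709c26b60ea5a5ca78e8584b9cc982d250bdb6b7,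 d324_T_1)]

set_option maxRecDepth 1000000 in
set_option maxHeartbeats 0 in
theorem g100_ok : Core.checkAll p100_n p100_w p100_mask p100_L p100_maskL p100_idc g100_T g100_prog g100_levels = true := by decide +kernel

set_option maxRecDepth 1000000 in
set_option maxHeartbeats 0 in
theorem ua_ok : Core.checkAll p100_n p100_w p100_mask p100_L p100_maskL p100_idc ua_T ua_prog ua_levels = true := by decide +kernel

set_option maxRecDepth 1000000 in
set_option maxHeartbeats 0 in
theorem ub_ok : Core.checkAll p100_n p100_w p100_mask p100_L p100_maskL p100_idc ub_T ub_prog ub_levels = true := by decide +kernel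

set_option maxRecDepth 1000000 in
set_option maxHeartbeats 0 in
theorem d324_ok : Core.checkAll p324_n p324_w p324_mask p324_L p324_maskL p324_idc d324_T d324_prog d324_levels = true := by decide +kernel

theorem g100_order : Core.orderC g100_levels = 604800 := by decide +kernel
theorem ua_order : Core.orderC ua_levels = 6048 := by decide +kernel
theorem ub_order : Core.orderC ub_levels = 6048 := by decide +kernel
theorem d324_order : Core.orderC d324_levels = 6048 := by decide +kernel

end Cfsg.Agent.Lib.J2Ico.CertU
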