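import Cfsg.Agent.Lib.J2Ico.Coord

/-!
# Representatives of the lines of minimal vectors (generated data)
-/

namespace Cfsg.Agent.Lib.J2Ico.Q8

/-- The units of the icosian ring. -/
def units : List Q8 := [⟨-2,0,0,0,0,0,0,0⟩, ⟨-1,0,-1,0,-1,0,-1,0⟩, ⟨-1,0,-1,0,-1,0,1,0⟩, ⟨-1,0,-1,0,1,0,-1,0⟩, ⟨-1,0,-1,0,1,0,1,0⟩, ⟨-1,0,-1,1,0,0,0,-1⟩, ⟨-1,0,-1,1,0,0,0,1⟩, ⟨-1,0,0,-1,-1,1,0,0⟩, ⟨-1,0,0,-1,1,-1,0,0⟩, ⟨-1,0,0,0,0,-1,-1,1⟩, ⟨-1,0,0,0,0,-1,1,-1⟩, ⟨-1,0,0,0,0,1,-1,1⟩, ⟨-1,0,0,0,0,1,1,-1⟩, ⟨-1,0,0,1,-1,1,0,0⟩, ⟨-1,0,0,1,1,-1,0,0⟩,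 ⟨-1,0,1,-1,0,0,0,-1⟩, ⟨-1,0,1,-1,0,0,0,1⟩, ⟨-1,0,1,0,-1,0,-1,0⟩, ⟨-1,0,1,0,-1,0,1,0⟩, ⟨-1,0,1,0,1,0,-1,0⟩, ⟨-1,0,1,0,1,0,1,0⟩, ⟨-1,1,-1,0,0,-1,0,0⟩, ⟨-1,1,-1,0,0,1,0,0⟩, ⟨-1,1,0,-1,0,0,-1,0⟩, ⟨-1,1,0,-1,0,0,1,0⟩, ⟨-1,1,0,0,-1,0,0,-1⟩, ⟨-1,1,0,0,-1,0,0,1⟩, ⟨-1,1,0,0,1,0,0,-1⟩, ⟨-1,1,0,0,1,0,0,1⟩, ⟨-1,1,0,1,0,0,-1,0⟩, ⟨-1,1,0,1,0,0,1,0⟩, ⟨-1,1,1,0,0,-1,0,0⟩, ⟨-1,1,1,0,0,1,0,0⟩, ⟨0,-1,-1,0,0,0,-1,1⟩, ⟨0,-1,-1,0,0,0,1,-1⟩, ⟨0,-1,-1,1,-1,0,0,0⟩, ⟨0,-1,-1,1,1,0,0,0⟩, ⟨0,-1,0,0,-1,1,-1,0⟩, ⟨0,-1,0,0,-1,1,1,0⟩, ⟨0,-1,0,0,1,-1,-1,0⟩,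 ⟨0,-1,0,0,1,-1,1,0⟩, ⟨0,-1,1,-1,-1,0,0,0⟩, ⟨0,-1,1,-1,1,0,0,0⟩, ⟨0,-1,1,0,0,0,-1,1⟩, ⟨0,-1,1,0,0,0,1,-1⟩, ⟨0,0,-2,0,0,0,0,0⟩, ⟨0,0,-1,0,-1,1,0,-1⟩, ⟨0,0,-1,0,-1,1,0,1⟩, ⟨0,0,-1,0,1,-1,0,-1⟩, ⟨0,0,-1,0,1,-1,0,1⟩, ⟨0,0,-1,1,0,-1,-1,0⟩, ⟨0,0,-1,1,0,-1,1,0⟩, ⟨0,0,-1,1,0,1,-1,0⟩, ⟨0,0,-1,1,0,1,1,0⟩, ⟨0,0,0,-1,-1,0,-1,1⟩, ⟨0,0,0,-1,-1,0,1,-1⟩, ⟨0,0,0,-1,1,0,-1,1⟩, ⟨0,0,0,-1,1,0,1,-1⟩, ⟨0,0,0,0,-2,0,0,0⟩, ⟨0,0,0,0,0,0,-2,0⟩, ⟨0,0,0,0,0,0,2,0⟩, ⟨0,0,0,0,2,0,0,0⟩, ⟨0,0,0,1,-1,0,-1,1⟩, ⟨0,0,0,1,-1,0,1,-1⟩, ⟨0,0,0,1,1,0,-1,1⟩,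 ⟨0,0,0,1,1,0,1,-1⟩, ⟨0,0,1,-1,0,-1,-1,0⟩, ⟨0,0,1,-1,0,-1,1,0⟩, ⟨0,0,1,-1,0,1,-1,0⟩, ⟨0,0,1,-1,0,1,1,0⟩, ⟨0,0,1,0,-1,1,0,-1⟩, ⟨0,0,1,0,-1,1,0,1⟩, ⟨0,0,1,0,1,-1,0,-1⟩, ⟨0,0,1,0,1,-1,0,1⟩, ⟨0,0,2,0,0,0,0,0⟩, ⟨0,1,-1,0,0,0,-1,1⟩, ⟨0,1,-1,0,0,0,1,-1⟩, ⟨0,1,-1,1,-1,0,0,0⟩, ⟨0,1,-1,1,1,0,0,0⟩, ⟨0,1,0,0,-1,1,-1,0⟩, ⟨0,1,0,0,-1,1,1,0⟩, ⟨0,1,0,0,1,-1,-1,0⟩, ⟨0,1,0,0,1,-1,1,0⟩, ⟨0,1,1,-1,-1,0,0,0⟩, ⟨0,1,1,-1,1,0,0,0⟩, ⟨0,1,1,0,0,0,-1,1⟩, ⟨0,1,1,0,0,0,1,-1⟩, ⟨1,-1,-1,0,0,-1,0,0⟩, ⟨1,-1,-1,0,0,1,0,0⟩, ⟨1,-1,0,-1,0,0,-1,0⟩, ⟨1,-1,0,-1,0,0,1,0⟩,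 ⟨1,-1,0,0,-1,0,0,-1⟩, ⟨1,-1,0,0,-1,0,0,1⟩, ⟨1,-1,0,0,1,0,0,-1⟩, ⟨1,-1,0,0,1,0,0,1⟩, ⟨1,-1,0,1,0,0,-1,0⟩, ⟨1,-1,0,1,0,0,1,0⟩, ⟨1,-1,1,0,0,-1,0,0⟩, ⟨1,-1,1,0,0,1,0,0⟩, ⟨1,0,-1,0,-1,0,-1,0⟩, ⟨1,0,-1,0,-1,0,1,0⟩, ⟨1,0,-1,0,1,0,-1,0⟩, ⟨1,0,-1,0,1,0,1,0⟩, ⟨1,0,-1,1,0,0,0,-1⟩, ⟨1,0,-1,1,0,0,0,1⟩, ⟨1,0,0,-1,-1,1,0,0⟩, ⟨1,0,0,-1,1,-1,0,0⟩, ⟨1,0,0,0,0,-1,-1,1⟩, ⟨1,0,0,0,0,-1,1,-1⟩, ⟨1,0,0,0,0,1,-1,1⟩, ⟨1,0,0,0,0,1,1,-1⟩, ⟨1,0,0,1,-1,1,0,0⟩, ⟨1,0,0,1,1,-1,0,0⟩, ⟨1,0,1,-1,0,0,0,-1⟩, ⟨1,0,1,-1,0,0,0,1⟩, ⟨1,0,1,0,-1,0,-1,0⟩, ⟨1,0,1,0,-1,0,1,0⟩,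 ⟨1,0,1,0,1,0,-1,0⟩, ⟨1,0,1,0,1,0,1,0⟩, ⟨2,0,0,0,0,0,0,0⟩]

/-- Representatives of the lines of minimal vectors. -/
def reps : List V3 := [(⟨0,0,0,0,0,0,0,0⟩, ⟨0,0,0,0,0,0,0,0⟩, ⟨-4,0,0,0,0,0,0,0⟩), (⟨0,0,0,0,0,0,0,0⟩, ⟨-2,0,-2,0,0,0,0,0⟩, ⟨2,0,2,0,0,0,0,0⟩), (⟨0,0,0,0,0,0,0,0⟩, ⟨-2,0,-2,0,0,0,0,0⟩, ⟨-2,0,2,0,0,0,0,0⟩), (⟨0,0,0,0,0,0,0,0⟩, ⟨-2,0,-2,0,0,0,0,0⟩, ⟨0,0,0,0,2,0,2,0⟩), (⟨0,0,0,0,0,0,0,0⟩, ⟨-2,0,-2,0,0,0,0,0⟩, ⟨0,0,0,0,-2,0,2,0⟩), (⟨0,0,0,0,0,0,0,0⟩, ⟨-2,0,-2,0,0,0,0,0⟩, ⟨0,0,0,0,2,0,-2,0⟩), (⟨0,0,0,0,0,0,0,0⟩,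 ⟨-2,0,-2,0,0,0,0,0⟩, ⟨0,0,0,0,-2,0,-2,0⟩), (⟨0,0,0,0,0,0,0,0⟩, ⟨-2,0,-2,0,0,0,0,0⟩, ⟨2,0,-2,0,0,0,0,0⟩), (⟨0,0,0,0,0,0,0,0⟩, ⟨-2,0,-2,0,0,0,0,0⟩, ⟨-2,0,-2,0,0,0,0,0⟩), (⟨0,0,0,0,0,0,0,0⟩, ⟨-4,0,0,0,0,0,0,0⟩, ⟨0,0,0,0,0,0,0,0⟩), (⟨-2,0,0,0,0,0,0,0⟩, ⟨2,0,0,0,0,0,0,0⟩, ⟨1,0,1,0,-1,0,1,-2⟩), (⟨-2,0,0,0,0,0,0,0⟩, ⟨2,0,0,0,0,0,0,0⟩, ⟨1,0,1,-2,1,0,-1,0⟩), (⟨-2,0,0,0,0,0,0,0⟩, ⟨2,0,0,0,0,0,0,0⟩, ⟨1,0,-1,0,1,-2,1,0⟩), (⟨-2,0,0,0,0,0,0,0⟩, ⟨2,0,0,0,0,0,0,0⟩, ⟨1,-2,-1,0,-1,0,-1,0⟩), (⟨-2,0,0,0,0,0,0,0⟩, ⟨2,0,0,0,0,0,0,0⟩, ⟨-1,2,1,0,1,0,1,0⟩),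 (⟨-2,0,0,0,0,0,0,0⟩, ⟨2,0,0,0,0,0,0,0⟩, ⟨-1,0,1,0,-1,2,-1,0⟩), (⟨-2,0,0,0,0,0,0,0⟩, ⟨2,0,0,0,0,0,0,0⟩, ⟨-1,0,-1,2,-1,0,1,0⟩), (⟨-2,0,0,0,0,0,0,0⟩, ⟨2,0,0,0,0,0,0,0⟩, ⟨-1,0,-1,0,1,0,-1,2⟩), (⟨-2,0,0,0,0,0,0,0⟩, ⟨1,0,1,0,1,0,-1,2⟩, ⟨0,0,2,0,0,0,0,0⟩), (⟨-2,0,0,0,0,0,0,0⟩, ⟨1,0,1,0,1,0,-1,2⟩, ⟨0,0,-2,0,0,0,0,0⟩), (⟨-2,0,0,0,0,0,0,0⟩, ⟨1,0,1,0,1,-2,-1,0⟩, ⟨0,0,0,0,2,0,0,0⟩), (⟨-2,0,0,0,0,0,0,0⟩, ⟨1,0,1,0,1,-2,-1,0⟩, ⟨0,0,0,0,-2,0,0,0⟩), (⟨-2,0,0,0,0,0,0,0⟩, ⟨1,0,1,0,-1,2,1,0⟩, ⟨0,0,0,0,0,0,2,0⟩), (⟨-2,0,0,0,0,0,0,0⟩, ⟨1,0,1,0,-1,2,1,0⟩,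 ⟨0,0,0,0,0,0,-2,0⟩), (⟨-2,0,0,0,0,0,0,0⟩, ⟨1,0,1,0,-1,0,1,-2⟩, ⟨2,0,0,0,0,0,0,0⟩), (⟨-2,0,0,0,0,0,0,0⟩, ⟨1,0,1,0,-1,0,1,-2⟩, ⟨-2,0,0,0,0,0,0,0⟩), (⟨-2,0,0,0,0,0,0,0⟩, ⟨1,0,1,-2,1,0,-1,0⟩, ⟨2,0,0,0,0,0,0,0⟩), (⟨-2,0,0,0,0,0,0,0⟩, ⟨1,0,1,-2,1,0,-1,0⟩, ⟨-2,0,0,0,0,0,0,0⟩), (⟨-2,0,0,0,0,0,0,0⟩, ⟨1,0,1,-2,-1,0,1,0⟩, ⟨0,0,2,0,0,0,0,0⟩), (⟨-2,0,0,0,0,0,0,0⟩, ⟨1,0,1,-2,-1,0,1,0⟩, ⟨0,0,-2,0,0,0,0,0⟩), (⟨-2,0,0,0,0,0,0,0⟩, ⟨1,0,-1,2,1,0,1,0⟩, ⟨0,0,0,0,2,0,0,0⟩), (⟨-2,0,0,0,0,0,0,0⟩, ⟨1,0,-1,2,1,0,1,0⟩, ⟨0,0,0,0,-2,0,0,0⟩), (⟨-2,0,0,0,0,0,0,0⟩,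 ⟨1,0,-1,2,-1,0,-1,0⟩, ⟨0,0,0,0,0,0,2,0⟩), (⟨-2,0,0,0,0,0,0,0⟩, ⟨1,0,-1,2,-1,0,-1,0⟩, ⟨0,0,0,0,0,0,-2,0⟩), (⟨-2,0,0,0,0,0,0,0⟩, ⟨1,0,-1,0,1,0,1,-2⟩, ⟨0,0,0,0,0,0,2,0⟩), (⟨-2,0,0,0,0,0,0,0⟩, ⟨1,0,-1,0,1,0,1,-2⟩, ⟨0,0,0,0,0,0,-2,0⟩), (⟨-2,0,0,0,0,0,0,0⟩, ⟨1,0,-1,0,1,-2,1,0⟩, ⟨2,0,0,0,0,0,0,0⟩), (⟨-2,0,0,0,0,0,0,0⟩, ⟨1,0,-1,0,1,-2,1,0⟩, ⟨-2,0,0,0,0,0,0,0⟩), (⟨-2,0,0,0,0,0,0,0⟩, ⟨1,0,-1,0,-1,2,-1,0⟩, ⟨0,0,2,0,0,0,0,0⟩), (⟨-2,0,0,0,0,0,0,0⟩, ⟨1,0,-1,0,-1,2,-1,0⟩, ⟨0,0,-2,0,0,0,0,0⟩), (⟨-2,0,0,0,0,0,0,0⟩, ⟨1,0,-1,0,-1,0,-1,2⟩,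 ⟨0,0,0,0,2,0,0,0⟩), (⟨-2,0,0,0,0,0,0,0⟩, ⟨1,0,-1,0,-1,0,-1,2⟩, ⟨0,0,0,0,-2,0,0,0⟩), (⟨-2,0,0,0,0,0,0,0⟩, ⟨1,-1,1,-1,1,-1,1,-1⟩, ⟨0,1,0,-1,0,-1,0,-1⟩), (⟨-2,0,0,0,0,0,0,0⟩, ⟨1,-1,1,-1,1,-1,1,-1⟩, ⟨0,-1,0,1,0,1,0,1⟩), (⟨-2,0,0,0,0,0,0,0⟩, ⟨1,-1,1,-1,-1,1,-1,1⟩, ⟨0,1,0,1,0,1,0,-1⟩), (⟨-2,0,0,0,0,0,0,0⟩, ⟨1,-1,1,-1,-1,1,-1,1⟩, ⟨0,-1,0,-1,0,-1,0,1⟩), (⟨-2,0,0,0,0,0,0,0⟩, ⟨1,-1,-1,1,1,-1,-1,1⟩, ⟨0,1,0,-1,0,1,0,1⟩), (⟨-2,0,0,0,0,0,0,0⟩, ⟨1,-1,-1,1,1,-1,-1,1⟩, ⟨0,-1,0,1,0,-1,0,-1⟩), (⟨-2,0,0,0,0,0,0,0⟩, ⟨1,-1,-1,1,-1,1,1,-1⟩,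 ⟨0,1,0,1,0,-1,0,1⟩), (⟨-2,0,0,0,0,0,0,0⟩, ⟨1,-1,-1,1,-1,1,1,-1⟩, ⟨0,-1,0,-1,0,1,0,-1⟩), (⟨-2,0,0,0,0,0,0,0⟩, ⟨1,-2,1,0,1,0,-1,0⟩, ⟨0,0,0,0,0,0,2,0⟩), (⟨-2,0,0,0,0,0,0,0⟩, ⟨1,-2,1,0,1,0,-1,0⟩, ⟨0,0,0,0,0,0,-2,0⟩), (⟨-2,0,0,0,0,0,0,0⟩, ⟨1,-2,1,0,-1,0,1,0⟩, ⟨0,0,0,0,2,0,0,0⟩), (⟨-2,0,0,0,0,0,0,0⟩, ⟨1,-2,1,0,-1,0,1,0⟩, ⟨0,0,0,0,-2,0,0,0⟩), (⟨-2,0,0,0,0,0,0,0⟩, ⟨1,-2,-1,0,1,0,1,0⟩, ⟨0,0,2,0,0,0,0,0⟩), (⟨-2,0,0,0,0,0,0,0⟩, ⟨1,-2,-1,0,1,0,1,0⟩, ⟨0,0,-2,0,0,0,0,0⟩), (⟨-2,0,0,0,0,0,0,0⟩, ⟨1,-2,-1,0,-1,0,-1,0⟩, ⟨2,0,0,0,0,0,0,0⟩),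 (⟨-2,0,0,0,0,0,0,0⟩, ⟨1,-2,-1,0,-1,0,-1,0⟩, ⟨-2,0,0,0,0,0,0,0⟩), (⟨-2,0,0,0,0,0,0,0⟩, ⟨0,1,0,1,0,1,0,-1⟩, ⟨1,-1,1,-1,-1,1,-1,1⟩), (⟨-2,0,0,0,0,0,0,0⟩, ⟨0,1,0,1,0,1,0,-1⟩, ⟨-1,1,-1,1,1,-1,1,-1⟩), (⟨-2,0,0,0,0,0,0,0⟩, ⟨0,1,0,1,0,-1,0,1⟩, ⟨1,-1,-1,1,-1,1,1,-1⟩), (⟨-2,0,0,0,0,0,0,0⟩, ⟨0,1,0,1,0,-1,0,1⟩, ⟨-1,1,1,-1,1,-1,-1,1⟩), (⟨-2,0,0,0,0,0,0,0⟩, ⟨0,1,0,-1,0,1,0,1⟩, ⟨1,-1,-1,1,1,-1,-1,1⟩), (⟨-2,0,0,0,0,0,0,0⟩, ⟨0,1,0,-1,0,1,0,1⟩, ⟨-1,1,1,-1,-1,1,1,-1⟩), (⟨-2,0,0,0,0,0,0,0⟩, ⟨0,1,0,-1,0,-1,0,-1⟩, ⟨1,-1,1,-1,1,-1,1,-1⟩),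 (⟨-2,0,0,0,0,0,0,0⟩, ⟨0,1,0,-1,0,-1,0,-1⟩, ⟨-1,1,-1,1,-1,1,-1,1⟩), (⟨-2,0,0,0,0,0,0,0⟩, ⟨0,0,2,0,0,0,0,0⟩, ⟨1,0,1,0,1,0,-1,2⟩), (⟨-2,0,0,0,0,0,0,0⟩, ⟨0,0,2,0,0,0,0,0⟩, ⟨1,0,1,-2,-1,0,1,0⟩), (⟨-2,0,0,0,0,0,0,0⟩, ⟨0,0,2,0,0,0,0,0⟩, ⟨1,0,-1,0,-1,2,-1,0⟩), (⟨-2,0,0,0,0,0,0,0⟩, ⟨0,0,2,0,0,0,0,0⟩, ⟨1,-2,-1,0,1,0,1,0⟩), (⟨-2,0,0,0,0,0,0,0⟩, ⟨0,0,2,0,0,0,0,0⟩, ⟨-1,2,1,0,-1,0,-1,0⟩), (⟨-2,0,0,0,0,0,0,0⟩, ⟨0,0,2,0,0,0,0,0⟩, ⟨-1,0,1,0,1,-2,1,0⟩), (⟨-2,0,0,0,0,0,0,0⟩, ⟨0,0,2,0,0,0,0,0⟩, ⟨-1,0,-1,2,1,0,-1,0⟩), (⟨-2,0,0,0,0,0,0,0⟩,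 ⟨0,0,2,0,0,0,0,0⟩, ⟨-1,0,-1,0,-1,0,1,-2⟩), (⟨-2,0,0,0,0,0,0,0⟩, ⟨0,0,0,0,2,0,0,0⟩, ⟨1,0,1,0,1,-2,-1,0⟩), (⟨-2,0,0,0,0,0,0,0⟩, ⟨0,0,0,0,2,0,0,0⟩, ⟨1,0,-1,2,1,0,1,0⟩), (⟨-2,0,0,0,0,0,0,0⟩, ⟨0,0,0,0,2,0,0,0⟩, ⟨1,0,-1,0,-1,0,-1,2⟩), (⟨-2,0,0,0,0,0,0,0⟩, ⟨0,0,0,0,2,0,0,0⟩, ⟨1,-2,1,0,-1,0,1,0⟩), (⟨-2,0,0,0,0,0,0,0⟩, ⟨0,0,0,0,2,0,0,0⟩, ⟨-1,2,-1,0,1,0,-1,0⟩), (⟨-2,0,0,0,0,0,0,0⟩, ⟨0,0,0,0,2,0,0,0⟩, ⟨-1,0,1,0,1,0,1,-2⟩), (⟨-2,0,0,0,0,0,0,0⟩, ⟨0,0,0,0,2,0,0,0⟩, ⟨-1,0,1,-2,-1,0,-1,0⟩), (⟨-2,0,0,0,0,0,0,0⟩, ⟨0,0,0,0,2,0,0,0⟩, ⟨-1,0,-1,0,-1,2,1,0⟩),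 (⟨-2,0,0,0,0,0,0,0⟩, ⟨0,0,0,0,0,0,2,0⟩, ⟨1,0,1,0,-1,2,1,0⟩), (⟨-2,0,0,0,0,0,0,0⟩, ⟨0,0,0,0,0,0,2,0⟩, ⟨1,0,-1,2,-1,0,-1,0⟩), (⟨-2,0,0,0,0,0,0,0⟩, ⟨0,0,0,0,0,0,2,0⟩, ⟨1,0,-1,0,1,0,1,-2⟩), (⟨-2,0,0,0,0,0,0,0⟩, ⟨0,0,0,0,0,0,2,0⟩, ⟨1,-2,1,0,1,0,-1,0⟩), (⟨-2,0,0,0,0,0,0,0⟩, ⟨0,0,0,0,0,0,2,0⟩, ⟨-1,2,-1,0,-1,0,1,0⟩), (⟨-2,0,0,0,0,0,0,0⟩, ⟨0,0,0,0,0,0,2,0⟩, ⟨-1,0,1,0,-1,0,-1,2⟩), (⟨-2,0,0,0,0,0,0,0⟩, ⟨0,0,0,0,0,0,2,0⟩, ⟨-1,0,1,-2,1,0,1,0⟩), (⟨-2,0,0,0,0,0,0,0⟩, ⟨0,0,0,0,0,0,2,0⟩, ⟨-1,0,-1,0,1,-2,-1,0⟩), (⟨-2,0,0,0,0,0,0,0⟩, ⟨0,0,0,0,0,0,-2,0⟩,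 ⟨1,0,1,0,-1,2,1,0⟩), (⟨-2,0,0,0,0,0,0,0⟩, ⟨0,0,0,0,0,0,-2,0⟩, ⟨1,0,-1,2,-1,0,-1,0⟩), (⟨-2,0,0,0,0,0,0,0⟩, ⟨0,0,0,0,0,0,-2,0⟩, ⟨1,0,-1,0,1,0,1,-2⟩), (⟨-2,0,0,0,0,0,0,0⟩, ⟨0,0,0,0,0,0,-2,0⟩, ⟨1,-2,1,0,1,0,-1,0⟩), (⟨-2,0,0,0,0,0,0,0⟩, ⟨0,0,0,0,0,0,-2,0⟩, ⟨-1,2,-1,0,-1,0,1,0⟩), (⟨-2,0,0,0,0,0,0,0⟩, ⟨0,0,0,0,0,0,-2,0⟩, ⟨-1,0,1,0,-1,0,-1,2⟩), (⟨-2,0,0,0,0,0,0,0⟩, ⟨0,0,0,0,0,0,-2,0⟩, ⟨-1,0,1,-2,1,0,1,0⟩), (⟨-2,0,0,0,0,0,0,0⟩, ⟨0,0,0,0,0,0,-2,0⟩, ⟨-1,0,-1,0,1,-2,-1,0⟩), (⟨-2,0,0,0,0,0,0,0⟩, ⟨0,0,0,0,-2,0,0,0⟩, ⟨1,0,1,0,1,-2,-1,0⟩),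 (⟨-2,0,0,0,0,0,0,0⟩, ⟨0,0,0,0,-2,0,0,0⟩, ⟨1,0,-1,2,1,0,1,0⟩), (⟨-2,0,0,0,0,0,0,0⟩, ⟨0,0,0,0,-2,0,0,0⟩, ⟨1,0,-1,0,-1,0,-1,2⟩), (⟨-2,0,0,0,0,0,0,0⟩, ⟨0,0,0,0,-2,0,0,0⟩, ⟨1,-2,1,0,-1,0,1,0⟩), (⟨-2,0,0,0,0,0,0,0⟩, ⟨0,0,0,0,-2,0,0,0⟩, ⟨-1,2,-1,0,1,0,-1,0⟩), (⟨-2,0,0,0,0,0,0,0⟩, ⟨0,0,0,0,-2,0,0,0⟩, ⟨-1,0,1,0,1,0,1,-2⟩), (⟨-2,0,0,0,0,0,0,0⟩, ⟨0,0,0,0,-2,0,0,0⟩, ⟨-1,0,1,-2,-1,0,-1,0⟩), (⟨-2,0,0,0,0,0,0,0⟩, ⟨0,0,0,0,-2,0,0,0⟩, ⟨-1,0,-1,0,-1,2,1,0⟩), (⟨-2,0,0,0,0,0,0,0⟩, ⟨0,0,-2,0,0,0,0,0⟩, ⟨1,0,1,0,1,0,-1,2⟩), (⟨-2,0,0,0,0,0,0,0⟩,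 ⟨0,0,-2,0,0,0,0,0⟩, ⟨1,0,1,-2,-1,0,1,0⟩), (⟨-2,0,0,0,0,0,0,0⟩, ⟨0,0,-2,0,0,0,0,0⟩, ⟨1,0,-1,0,-1,2,-1,0⟩), (⟨-2,0,0,0,0,0,0,0⟩, ⟨0,0,-2,0,0,0,0,0⟩, ⟨1,-2,-1,0,1,0,1,0⟩), (⟨-2,0,0,0,0,0,0,0⟩, ⟨0,0,-2,0,0,0,0,0⟩, ⟨-1,2,1,0,-1,0,-1,0⟩), (⟨-2,0,0,0,0,0,0,0⟩, ⟨0,0,-2,0,0,0,0,0⟩, ⟨-1,0,1,0,1,-2,1,0⟩), (⟨-2,0,0,0,0,0,0,0⟩, ⟨0,0,-2,0,0,0,0,0⟩, ⟨-1,0,-1,2,1,0,-1,0⟩), (⟨-2,0,0,0,0,0,0,0⟩, ⟨0,0,-2,0,0,0,0,0⟩, ⟨-1,0,-1,0,-1,0,1,-2⟩), (⟨-2,0,0,0,0,0,0,0⟩, ⟨0,-1,0,1,0,1,0,1⟩, ⟨1,-1,1,-1,1,-1,1,-1⟩), (⟨-2,0,0,0,0,0,0,0⟩, ⟨0,-1,0,1,0,1,0,1⟩,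 ⟨-1,1,-1,1,-1,1,-1,1⟩), (⟨-2,0,0,0,0,0,0,0⟩, ⟨0,-1,0,1,0,-1,0,-1⟩, ⟨1,-1,-1,1,1,-1,-1,1⟩), (⟨-2,0,0,0,0,0,0,0⟩, ⟨0,-1,0,1,0,-1,0,-1⟩, ⟨-1,1,1,-1,-1,1,1,-1⟩), (⟨-2,0,0,0,0,0,0,0⟩, ⟨0,-1,0,-1,0,1,0,-1⟩, ⟨1,-1,-1,1,-1,1,1,-1⟩), (⟨-2,0,0,0,0,0,0,0⟩, ⟨0,-1,0,-1,0,1,0,-1⟩, ⟨-1,1,1,-1,1,-1,-1,1⟩), (⟨-2,0,0,0,0,0,0,0⟩, ⟨0,-1,0,-1,0,-1,0,1⟩, ⟨1,-1,1,-1,-1,1,-1,1⟩), (⟨-2,0,0,0,0,0,0,0⟩, ⟨0,-1,0,-1,0,-1,0,1⟩, ⟨-1,1,-1,1,1,-1,1,-1⟩), (⟨-2,0,0,0,0,0,0,0⟩, ⟨-1,2,1,0,1,0,1,0⟩, ⟨2,0,0,0,0,0,0,0⟩), (⟨-2,0,0,0,0,0,0,0⟩, ⟨-1,2,1,0,1,0,1,0⟩,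 ⟨-2,0,0,0,0,0,0,0⟩), (⟨-2,0,0,0,0,0,0,0⟩, ⟨-1,2,1,0,-1,0,-1,0⟩, ⟨0,0,2,0,0,0,0,0⟩), (⟨-2,0,0,0,0,0,0,0⟩, ⟨-1,2,1,0,-1,0,-1,0⟩, ⟨0,0,-2,0,0,0,0,0⟩), (⟨-2,0,0,0,0,0,0,0⟩, ⟨-1,2,-1,0,1,0,-1,0⟩, ⟨0,0,0,0,2,0,0,0⟩), (⟨-2,0,0,0,0,0,0,0⟩, ⟨-1,2,-1,0,1,0,-1,0⟩, ⟨0,0,0,0,-2,0,0,0⟩), (⟨-2,0,0,0,0,0,0,0⟩, ⟨-1,2,-1,0,-1,0,1,0⟩, ⟨0,0,0,0,0,0,2,0⟩), (⟨-2,0,0,0,0,0,0,0⟩, ⟨-1,2,-1,0,-1,0,1,0⟩, ⟨0,0,0,0,0,0,-2,0⟩), (⟨-2,0,0,0,0,0,0,0⟩, ⟨-1,1,1,-1,1,-1,-1,1⟩, ⟨0,1,0,1,0,-1,0,1⟩), (⟨-2,0,0,0,0,0,0,0⟩, ⟨-1,1,1,-1,1,-1,-1,1⟩, ⟨0,-1,0,-1,0,1,0,-1⟩),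 (⟨-2,0,0,0,0,0,0,0⟩, ⟨-1,1,1,-1,-1,1,1,-1⟩, ⟨0,1,0,-1,0,1,0,1⟩), (⟨-2,0,0,0,0,0,0,0⟩, ⟨-1,1,1,-1,-1,1,1,-1⟩, ⟨0,-1,0,1,0,-1,0,-1⟩), (⟨-2,0,0,0,0,0,0,0⟩, ⟨-1,1,-1,1,1,-1,1,-1⟩, ⟨0,1,0,1,0,1,0,-1⟩), (⟨-2,0,0,0,0,0,0,0⟩, ⟨-1,1,-1,1,1,-1,1,-1⟩, ⟨0,-1,0,-1,0,-1,0,1⟩), (⟨-2,0,0,0,0,0,0,0⟩, ⟨-1,1,-1,1,-1,1,-1,1⟩, ⟨0,1,0,-1,0,-1,0,-1⟩), (⟨-2,0,0,0,0,0,0,0⟩, ⟨-1,1,-1,1,-1,1,-1,1⟩, ⟨0,-1,0,1,0,1,0,1⟩), (⟨-2,0,0,0,0,0,0,0⟩, ⟨-1,0,1,0,1,0,1,-2⟩, ⟨0,0,0,0,2,0,0,0⟩), (⟨-2,0,0,0,0,0,0,0⟩, ⟨-1,0,1,0,1,0,1,-2⟩, ⟨0,0,0,0,-2,0,0,0⟩), (⟨-2,0,0,0,0,0,0,0⟩,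 ⟨-1,0,1,0,1,-2,1,0⟩, ⟨0,0,2,0,0,0,0,0⟩), (⟨-2,0,0,0,0,0,0,0⟩, ⟨-1,0,1,0,1,-2,1,0⟩, ⟨0,0,-2,0,0,0,0,0⟩), (⟨-2,0,0,0,0,0,0,0⟩, ⟨-1,0,1,0,-1,2,-1,0⟩, ⟨2,0,0,0,0,0,0,0⟩), (⟨-2,0,0,0,0,0,0,0⟩, ⟨-1,0,1,0,-1,2,-1,0⟩, ⟨-2,0,0,0,0,0,0,0⟩), (⟨-2,0,0,0,0,0,0,0⟩, ⟨-1,0,1,0,-1,0,-1,2⟩, ⟨0,0,0,0,0,0,2,0⟩), (⟨-2,0,0,0,0,0,0,0⟩, ⟨-1,0,1,0,-1,0,-1,2⟩, ⟨0,0,0,0,0,0,-2,0⟩), (⟨-2,0,0,0,0,0,0,0⟩, ⟨-1,0,1,-2,1,0,1,0⟩, ⟨0,0,0,0,0,0,2,0⟩), (⟨-2,0,0,0,0,0,0,0⟩, ⟨-1,0,1,-2,1,0,1,0⟩, ⟨0,0,0,0,0,0,-2,0⟩), (⟨-2,0,0,0,0,0,0,0⟩, ⟨-1,0,1,-2,-1,0,-1,0⟩,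 ⟨0,0,0,0,2,0,0,0⟩), (⟨-2,0,0,0,0,0,0,0⟩, ⟨-1,0,1,-2,-1,0,-1,0⟩, ⟨0,0,0,0,-2,0,0,0⟩), (⟨-2,0,0,0,0,0,0,0⟩, ⟨-1,0,-1,2,1,0,-1,0⟩, ⟨0,0,2,0,0,0,0,0⟩), (⟨-2,0,0,0,0,0,0,0⟩, ⟨-1,0,-1,2,1,0,-1,0⟩, ⟨0,0,-2,0,0,0,0,0⟩), (⟨-2,0,0,0,0,0,0,0⟩, ⟨-1,0,-1,2,-1,0,1,0⟩, ⟨2,0,0,0,0,0,0,0⟩), (⟨-2,0,0,0,0,0,0,0⟩, ⟨-1,0,-1,2,-1,0,1,0⟩, ⟨-2,0,0,0,0,0,0,0⟩), (⟨-2,0,0,0,0,0,0,0⟩, ⟨-1,0,-1,0,1,0,-1,2⟩, ⟨2,0,0,0,0,0,0,0⟩), (⟨-2,0,0,0,0,0,0,0⟩, ⟨-1,0,-1,0,1,0,-1,2⟩, ⟨-2,0,0,0,0,0,0,0⟩), (⟨-2,0,0,0,0,0,0,0⟩, ⟨-1,0,-1,0,1,-2,-1,0⟩, ⟨0,0,0,0,0,0,2,0⟩),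 (⟨-2,0,0,0,0,0,0,0⟩, ⟨-1,0,-1,0,1,-2,-1,0⟩, ⟨0,0,0,0,0,0,-2,0⟩), (⟨-2,0,0,0,0,0,0,0⟩, ⟨-1,0,-1,0,-1,2,1,0⟩, ⟨0,0,0,0,2,0,0,0⟩), (⟨-2,0,0,0,0,0,0,0⟩, ⟨-1,0,-1,0,-1,2,1,0⟩, ⟨0,0,0,0,-2,0,0,0⟩), (⟨-2,0,0,0,0,0,0,0⟩, ⟨-1,0,-1,0,-1,0,1,-2⟩, ⟨0,0,2,0,0,0,0,0⟩), (⟨-2,0,0,0,0,0,0,0⟩, ⟨-1,0,-1,0,-1,0,1,-2⟩, ⟨0,0,-2,0,0,0,0,0⟩), (⟨-2,0,0,0,0,0,0,0⟩, ⟨-2,0,0,0,0,0,0,0⟩, ⟨1,0,1,0,-1,0,1,-2⟩), (⟨-2,0,0,0,0,0,0,0⟩, ⟨-2,0,0,0,0,0,0,0⟩, ⟨1,0,1,-2,1,0,-1,0⟩), (⟨-2,0,0,0,0,0,0,0⟩, ⟨-2,0,0,0,0,0,0,0⟩, ⟨1,0,-1,0,1,-2,1,0⟩), (⟨-2,0,0,0,0,0,0,0⟩,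 ⟨-2,0,0,0,0,0,0,0⟩, ⟨1,-2,-1,0,-1,0,-1,0⟩), (⟨-2,0,0,0,0,0,0,0⟩, ⟨-2,0,0,0,0,0,0,0⟩, ⟨-1,2,1,0,1,0,1,0⟩), (⟨-2,0,0,0,0,0,0,0⟩, ⟨-2,0,0,0,0,0,0,0⟩, ⟨-1,0,1,0,-1,2,-1,0⟩), (⟨-2,0,0,0,0,0,0,0⟩, ⟨-2,0,0,0,0,0,0,0⟩, ⟨-1,0,-1,2,-1,0,1,0⟩), (⟨-2,0,0,0,0,0,0,0⟩, ⟨-2,0,0,0,0,0,0,0⟩, ⟨-1,0,-1,0,1,0,-1,2⟩), (⟨-1,-1,-1,0,0,-1,0,0⟩, ⟨0,0,2,-1,1,0,1,-1⟩, ⟨1,0,-1,1,0,0,0,-1⟩), (⟨-1,-1,-1,0,0,-1,0,0⟩, ⟨0,0,2,-1,1,0,1,-1⟩, ⟨-1,0,1,-1,0,0,0,1⟩), (⟨-1,-1,-1,0,0,-1,0,0⟩, ⟨-1,1,1,0,-2,1,0,0⟩, ⟨0,1,0,0,1,-1,1,0⟩), (⟨-1,-1,-1,0,0,-1,0,0⟩,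 ⟨-1,1,1,0,-2,1,0,0⟩, ⟨0,-1,0,0,-1,1,-1,0⟩), (⟨-1,-1,-1,0,0,-1,0,0⟩, ⟨2,-1,0,0,-1,1,1,0⟩, ⟨-1,1,-1,0,0,1,0,0⟩), (⟨-1,-1,-1,0,0,-1,0,0⟩, ⟨2,-1,0,0,-1,1,1,0⟩, ⟨1,-1,1,0,0,-1,0,0⟩), (⟨-1,-1,-1,0,0,-1,0,0⟩, ⟨1,0,1,-1,0,0,-2,1⟩, ⟨0,0,0,1,1,0,-1,1⟩), (⟨-1,-1,-1,0,0,-1,0,0⟩, ⟨1,0,1,-1,0,0,-2,1⟩, ⟨0,0,0,-1,-1,0,1,-1⟩), (⟨-1,-1,-1,0,0,-1,0,0⟩, ⟨0,0,0,1,1,0,-1,1⟩, ⟨1,0,1,-1,0,0,-2,1⟩), (⟨-1,-1,-1,0,0,-1,0,0⟩, ⟨0,0,0,1,1,0,-1,1⟩, ⟨-1,0,-1,1,0,0,2,-1⟩), (⟨-1,-1,-1,0,0,-1,0,0⟩, ⟨1,0,-1,1,0,0,0,-1⟩, ⟨0,0,2,-1,1,0,1,-1⟩), (⟨-1,-1,-1,0,0,-1,0,0⟩,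 ⟨1,0,-1,1,0,0,0,-1⟩, ⟨0,0,-2,1,-1,0,-1,1⟩), (⟨-1,-1,-1,0,0,-1,0,0⟩, ⟨-1,1,-1,0,0,1,0,0⟩, ⟨2,-1,0,0,-1,1,1,0⟩), (⟨-1,-1,-1,0,0,-1,0,0⟩, ⟨-1,1,-1,0,0,1,0,0⟩, ⟨-2,1,0,0,1,-1,-1,0⟩), (⟨-1,-1,-1,0,0,-1,0,0⟩, ⟨0,1,0,0,1,-1,1,0⟩, ⟨-1,1,1,0,-2,1,0,0⟩), (⟨-1,-1,-1,0,0,-1,0,0⟩, ⟨0,1,0,0,1,-1,1,0⟩, ⟨1,-1,-1,0,2,-1,0,0⟩), (⟨-1,-1,-1,0,0,-1,0,0⟩, ⟨0,-1,0,0,-1,1,-1,0⟩, ⟨-1,1,1,0,-2,1,0,0⟩), (⟨-1,-1,-1,0,0,-1,0,0⟩, ⟨0,-1,0,0,-1,1,-1,0⟩, ⟨1,-1,-1,0,2,-1,0,0⟩), (⟨-1,-1,-1,0,0,-1,0,0⟩, ⟨1,-1,1,0,0,-1,0,0⟩, ⟨2,-1,0,0,-1,1,1,0⟩), (⟨-1,-1,-1,0,0,-1,0,0⟩,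 ⟨1,-1,1,0,0,-1,0,0⟩, ⟨-2,1,0,0,1,-1,-1,0⟩), (⟨-1,-1,-1,0,0,-1,0,0⟩, ⟨-1,0,1,-1,0,0,0,1⟩, ⟨0,0,2,-1,1,0,1,-1⟩), (⟨-1,-1,-1,0,0,-1,0,0⟩, ⟨-1,0,1,-1,0,0,0,1⟩, ⟨0,0,-2,1,-1,0,-1,1⟩), (⟨-1,-1,-1,0,0,-1,0,0⟩, ⟨0,0,0,-1,-1,0,1,-1⟩, ⟨1,0,1,-1,0,0,-2,1⟩), (⟨-1,-1,-1,0,0,-1,0,0⟩, ⟨0,0,0,-1,-1,0,1,-1⟩, ⟨-1,0,-1,1,0,0,2,-1⟩), (⟨-1,-1,-1,0,0,-1,0,0⟩, ⟨-1,0,-1,1,0,0,2,-1⟩, ⟨0,0,0,1,1,0,-1,1⟩), (⟨-1,-1,-1,0,0,-1,0,0⟩, ⟨-1,0,-1,1,0,0,2,-1⟩, ⟨0,0,0,-1,-1,0,1,-1⟩), (⟨-1,-1,-1,0,0,-1,0,0⟩, ⟨-2,1,0,0,1,-1,-1,0⟩, ⟨-1,1,-1,0,0,1,0,0⟩), (⟨-1,-1,-1,0,0,-1,0,0⟩,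 ⟨-2,1,0,0,1,-1,-1,0⟩, ⟨1,-1,1,0,0,-1,0,0⟩), (⟨-1,-1,-1,0,0,-1,0,0⟩, ⟨1,-1,-1,0,2,-1,0,0⟩, ⟨0,1,0,0,1,-1,1,0⟩), (⟨-1,-1,-1,0,0,-1,0,0⟩, ⟨1,-1,-1,0,2,-1,0,0⟩, ⟨0,-1,0,0,-1,1,-1,0⟩), (⟨-1,-1,-1,0,0,-1,0,0⟩, ⟨0,0,-2,1,-1,0,-1,1⟩, ⟨1,0,-1,1,0,0,0,-1⟩), (⟨-1,-1,-1,0,0,-1,0,0⟩, ⟨0,0,-2,1,-1,0,-1,1⟩, ⟨-1,0,1,-1,0,0,0,1⟩), (⟨-2,1,-1,0,0,0,-1,1⟩, ⟨0,0,1,1,0,-1,1,0⟩, ⟨1,-1,0,0,-1,0,0,1⟩), (⟨-2,1,-1,0,0,0,-1,1⟩, ⟨0,0,1,1,0,-1,1,0⟩, ⟨-1,1,0,0,1,0,0,-1⟩), (⟨-2,1,-1,0,0,0,-1,1⟩, ⟨0,-1,1,0,0,0,-1,-1⟩, ⟨1,0,0,-1,1,-1,0,0⟩), (⟨-2,1,-1,0,0,0,-1,1⟩,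 ⟨0,-1,1,0,0,0,-1,-1⟩, ⟨-1,0,0,1,-1,1,0,0⟩), (⟨-2,1,-1,0,0,0,-1,1⟩, ⟨1,0,0,1,1,1,0,0⟩, ⟨0,-1,-1,0,0,0,1,-1⟩), (⟨-2,1,-1,0,0,0,-1,1⟩, ⟨1,0,0,1,1,1,0,0⟩, ⟨0,1,1,0,0,0,-1,1⟩), (⟨-2,1,-1,0,0,0,-1,1⟩, ⟨1,1,0,0,-1,0,0,-1⟩, ⟨0,0,1,-1,0,1,1,0⟩), (⟨-2,1,-1,0,0,0,-1,1⟩, ⟨1,1,0,0,-1,0,0,-1⟩, ⟨0,0,-1,1,0,-1,-1,0⟩), (⟨-2,1,-1,0,0,0,-1,1⟩, ⟨1,0,0,-1,1,-1,0,0⟩, ⟨0,-1,1,0,0,0,-1,-1⟩), (⟨-2,1,-1,0,0,0,-1,1⟩, ⟨1,0,0,-1,1,-1,0,0⟩, ⟨0,1,-1,0,0,0,1,1⟩), (⟨-2,1,-1,0,0,0,-1,1⟩, ⟨0,0,1,-1,0,1,1,0⟩, ⟨1,1,0,0,-1,0,0,-1⟩), (⟨-2,1,-1,0,0,0,-1,1⟩,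 ⟨0,0,1,-1,0,1,1,0⟩, ⟨-1,-1,0,0,1,0,0,1⟩), (⟨-2,1,-1,0,0,0,-1,1⟩, ⟨0,-1,-1,0,0,0,1,-1⟩, ⟨1,0,0,1,1,1,0,0⟩), (⟨-2,1,-1,0,0,0,-1,1⟩, ⟨0,-1,-1,0,0,0,1,-1⟩, ⟨-1,0,0,-1,-1,-1,0,0⟩), (⟨-2,1,-1,0,0,0,-1,1⟩, ⟨1,-1,0,0,-1,0,0,1⟩, ⟨0,0,1,1,0,-1,1,0⟩), (⟨-2,1,-1,0,0,0,-1,1⟩, ⟨1,-1,0,0,-1,0,0,1⟩, ⟨0,0,-1,-1,0,1,-1,0⟩), (⟨-2,1,-1,0,0,0,-1,1⟩, ⟨-1,1,0,0,1,0,0,-1⟩, ⟨0,0,1,1,0,-1,1,0⟩), (⟨-2,1,-1,0,0,0,-1,1⟩, ⟨-1,1,0,0,1,0,0,-1⟩, ⟨0,0,-1,-1,0,1,-1,0⟩), (⟨-2,1,-1,0,0,0,-1,1⟩, ⟨0,1,1,0,0,0,-1,1⟩, ⟨1,0,0,1,1,1,0,0⟩), (⟨-2,1,-1,0,0,0,-1,1⟩,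 ⟨0,1,1,0,0,0,-1,1⟩, ⟨-1,0,0,-1,-1,-1,0,0⟩), (⟨-2,1,-1,0,0,0,-1,1⟩, ⟨0,0,-1,1,0,-1,-1,0⟩, ⟨1,1,0,0,-1,0,0,-1⟩), (⟨-2,1,-1,0,0,0,-1,1⟩, ⟨0,0,-1,1,0,-1,-1,0⟩, ⟨-1,-1,0,0,1,0,0,1⟩), (⟨-2,1,-1,0,0,0,-1,1⟩, ⟨-1,0,0,1,-1,1,0,0⟩, ⟨0,-1,1,0,0,0,-1,-1⟩), (⟨-2,1,-1,0,0,0,-1,1⟩, ⟨-1,0,0,1,-1,1,0,0⟩, ⟨0,1,-1,0,0,0,1,1⟩), (⟨-2,1,-1,0,0,0,-1,1⟩, ⟨-1,-1,0,0,1,0,0,1⟩, ⟨0,0,1,-1,0,1,1,0⟩), (⟨-2,1,-1,0,0,0,-1,1⟩, ⟨-1,-1,0,0,1,0,0,1⟩, ⟨0,0,-1,1,0,-1,-1,0⟩), (⟨-2,1,-1,0,0,0,-1,1⟩, ⟨-1,0,0,-1,-1,-1,0,0⟩, ⟨0,-1,-1,0,0,0,1,-1⟩), (⟨-2,1,-1,0,0,0,-1,1⟩,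 ⟨-1,0,0,-1,-1,-1,0,0⟩, ⟨0,1,1,0,0,0,-1,1⟩), (⟨-2,1,-1,0,0,0,-1,1⟩, ⟨0,1,-1,0,0,0,1,1⟩, ⟨1,0,0,-1,1,-1,0,0⟩), (⟨-2,1,-1,0,0,0,-1,1⟩, ⟨0,1,-1,0,0,0,1,1⟩, ⟨-1,0,0,1,-1,1,0,0⟩), (⟨-2,1,-1,0,0,0,-1,1⟩, ⟨0,0,-1,-1,0,1,-1,0⟩, ⟨1,-1,0,0,-1,0,0,1⟩), (⟨-2,1,-1,0,0,0,-1,1⟩, ⟨0,0,-1,-1,0,1,-1,0⟩, ⟨-1,1,0,0,1,0,0,-1⟩), (⟨-2,0,-2,0,0,0,0,0⟩, ⟨2,0,2,0,0,0,0,0⟩, ⟨0,0,0,0,0,0,0,0⟩), (⟨-2,0,-1,0,1,-1,0,-1⟩, ⟨1,0,0,0,0,1,1,-1⟩, ⟨0,1,1,-1,-1,0,0,0⟩), (⟨-2,0,-1,0,1,-1,0,-1⟩, ⟨1,0,0,0,0,1,1,-1⟩, ⟨0,-1,-1,1,1,0,0,0⟩), (⟨-2,0,-1,0,1,-1,0,1⟩,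 ⟨1,0,0,0,0,-1,1,-1⟩, ⟨0,0,-1,0,-1,1,0,-1⟩), (⟨-2,0,-1,0,1,-1,0,1⟩, ⟨1,0,0,0,0,-1,1,-1⟩, ⟨0,0,1,0,1,-1,0,1⟩), (⟨-2,0,-1,0,-1,1,0,-1⟩, ⟨1,0,0,0,0,1,-1,1⟩, ⟨1,0,0,0,0,1,-1,1⟩), (⟨-2,0,-1,0,-1,1,0,-1⟩, ⟨1,0,0,0,0,1,-1,1⟩, ⟨-1,0,0,0,0,-1,1,-1⟩), (⟨-2,0,-1,0,-1,1,0,1⟩, ⟨1,0,0,0,0,-1,-1,1⟩, ⟨1,-1,0,-1,0,0,1,0⟩), (⟨-2,0,-1,0,-1,1,0,1⟩, ⟨1,0,0,0,0,-1,-1,1⟩, ⟨-1,1,0,1,0,0,-1,0⟩), (⟨-2,0,-1,0,-1,1,0,1⟩, ⟨0,1,1,-1,1,0,0,0⟩, ⟨0,0,-1,0,1,-1,0,-1⟩), (⟨-2,0,-1,0,-1,1,0,1⟩, ⟨0,1,1,-1,1,0,0,0⟩, ⟨0,0,1,0,-1,1,0,1⟩), (⟨-2,0,-1,0,1,-1,0,-1⟩,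 ⟨0,1,1,-1,-1,0,0,0⟩, ⟨1,0,0,0,0,1,1,-1⟩), (⟨-2,0,-1,0,1,-1,0,-1⟩, ⟨0,1,1,-1,-1,0,0,0⟩, ⟨-1,0,0,0,0,-1,-1,1⟩), (⟨-2,0,-1,0,1,-1,0,1⟩, ⟨1,-1,0,1,0,0,-1,0⟩, ⟨0,-1,1,-1,-1,0,0,0⟩), (⟨-2,0,-1,0,1,-1,0,1⟩, ⟨1,-1,0,1,0,0,-1,0⟩, ⟨0,1,-1,1,1,0,0,0⟩), (⟨-2,0,-1,0,-1,1,0,-1⟩, ⟨1,-1,0,1,0,0,1,0⟩, ⟨1,-1,0,1,0,0,1,0⟩), (⟨-2,0,-1,0,-1,1,0,-1⟩, ⟨1,-1,0,1,0,0,1,0⟩, ⟨-1,1,0,-1,0,0,-1,0⟩), (⟨-2,0,-1,0,-1,1,0,-1⟩, ⟨0,0,-1,0,1,-1,0,1⟩, ⟨0,0,-1,0,1,-1,0,1⟩), (⟨-2,0,-1,0,-1,1,0,-1⟩, ⟨0,0,-1,0,1,-1,0,1⟩, ⟨0,0,1,0,-1,1,0,-1⟩), (⟨-2,0,-1,0,-1,1,0,1⟩,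 ⟨0,0,-1,0,1,-1,0,-1⟩, ⟨0,1,1,-1,1,0,0,0⟩), (⟨-2,0,-1,0,-1,1,0,1⟩, ⟨0,0,-1,0,1,-1,0,-1⟩, ⟨0,-1,-1,1,-1,0,0,0⟩), (⟨-2,0,-1,0,1,-1,0,-1⟩, ⟨0,0,-1,0,-1,1,0,1⟩, ⟨1,-1,0,-1,0,0,-1,0⟩), (⟨-2,0,-1,0,1,-1,0,-1⟩, ⟨0,0,-1,0,-1,1,0,1⟩, ⟨-1,1,0,1,0,0,1,0⟩), (⟨-2,0,-1,0,1,-1,0,1⟩, ⟨0,0,-1,0,-1,1,0,-1⟩, ⟨1,0,0,0,0,-1,1,-1⟩), (⟨-2,0,-1,0,1,-1,0,1⟩, ⟨0,0,-1,0,-1,1,0,-1⟩, ⟨-1,0,0,0,0,1,-1,1⟩), (⟨-2,0,-1,0,-1,1,0,-1⟩, ⟨0,-1,1,-1,1,0,0,0⟩, ⟨0,-1,1,-1,1,0,0,0⟩), (⟨-2,0,-1,0,-1,1,0,-1⟩, ⟨0,-1,1,-1,1,0,0,0⟩, ⟨0,1,-1,1,-1,0,0,0⟩), (⟨-2,0,-1,0,1,-1,0,1⟩,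 ⟨0,-1,1,-1,-1,0,0,0⟩, ⟨1,-1,0,1,0,0,-1,0⟩), (⟨-2,0,-1,0,1,-1,0,1⟩, ⟨0,-1,1,-1,-1,0,0,0⟩, ⟨-1,1,0,-1,0,0,1,0⟩), (⟨-2,0,-1,0,1,-1,0,-1⟩, ⟨1,-1,0,-1,0,0,-1,0⟩, ⟨0,0,-1,0,-1,1,0,1⟩), (⟨-2,0,-1,0,1,-1,0,-1⟩, ⟨1,-1,0,-1,0,0,-1,0⟩, ⟨0,0,1,0,1,-1,0,-1⟩), (⟨-2,0,-1,0,-1,1,0,1⟩, ⟨1,-1,0,-1,0,0,1,0⟩, ⟨1,0,0,0,0,-1,-1,1⟩), (⟨-2,0,-1,0,-1,1,0,1⟩, ⟨1,-1,0,-1,0,0,1,0⟩, ⟨-1,0,0,0,0,1,1,-1⟩), (⟨-2,0,-2,0,0,0,0,0⟩, ⟨-2,0,2,0,0,0,0,0⟩, ⟨0,0,0,0,0,0,0,0⟩), (⟨-2,0,-2,0,0,0,0,0⟩, ⟨0,0,0,0,2,0,2,0⟩, ⟨0,0,0,0,0,0,0,0⟩), (⟨-2,0,-2,0,0,0,0,0⟩,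 ⟨0,0,0,0,-2,0,2,0⟩, ⟨0,0,0,0,0,0,0,0⟩), (⟨-2,0,-2,0,0,0,0,0⟩, ⟨0,0,0,0,0,0,0,0⟩, ⟨2,0,2,0,0,0,0,0⟩), (⟨-2,0,-2,0,0,0,0,0⟩, ⟨0,0,0,0,0,0,0,0⟩, ⟨-2,0,2,0,0,0,0,0⟩), (⟨-2,0,-2,0,0,0,0,0⟩, ⟨0,0,0,0,0,0,0,0⟩, ⟨0,0,0,0,2,0,2,0⟩), (⟨-2,0,-2,0,0,0,0,0⟩, ⟨0,0,0,0,0,0,0,0⟩, ⟨0,0,0,0,-2,0,2,0⟩), (⟨-2,0,-2,0,0,0,0,0⟩, ⟨0,0,0,0,0,0,0,0⟩, ⟨0,0,0,0,2,0,-2,0⟩), (⟨-2,0,-2,0,0,0,0,0⟩, ⟨0,0,0,0,0,0,0,0⟩, ⟨0,0,0,0,-2,0,-2,0⟩), (⟨-2,0,-2,0,0,0,0,0⟩, ⟨0,0,0,0,0,0,0,0⟩, ⟨2,0,-2,0,0,0,0,0⟩), (⟨-2,0,-2,0,0,0,0,0⟩, ⟨0,0,0,0,0,0,0,0⟩, ⟨-2,0,-2,0,0,0,0,0⟩),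 (⟨-2,0,-2,0,0,0,0,0⟩, ⟨0,0,0,0,2,0,-2,0⟩, ⟨0,0,0,0,0,0,0,0⟩), (⟨-2,0,-2,0,0,0,0,0⟩, ⟨0,0,0,0,-2,0,-2,0⟩, ⟨0,0,0,0,0,0,0,0⟩), (⟨-2,0,-2,0,0,0,0,0⟩, ⟨2,0,-2,0,0,0,0,0⟩, ⟨0,0,0,0,0,0,0,0⟩), (⟨-2,0,-1,0,-1,1,0,1⟩, ⟨-1,1,0,1,0,0,-1,0⟩, ⟨1,0,0,0,0,-1,-1,1⟩), (⟨-2,0,-1,0,-1,1,0,1⟩, ⟨-1,1,0,1,0,0,-1,0⟩, ⟨-1,0,0,0,0,1,1,-1⟩), (⟨-2,0,-1,0,1,-1,0,-1⟩, ⟨-1,1,0,1,0,0,1,0⟩, ⟨0,0,-1,0,-1,1,0,1⟩), (⟨-2,0,-1,0,1,-1,0,-1⟩, ⟨-1,1,0,1,0,0,1,0⟩, ⟨0,0,1,0,1,-1,0,-1⟩), (⟨-2,0,-1,0,1,-1,0,1⟩, ⟨0,1,-1,1,1,0,0,0⟩, ⟨1,-1,0,1,0,0,-1,0⟩), (⟨-2,0,-1,0,1,-1,0,1⟩,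 ⟨0,1,-1,1,1,0,0,0⟩, ⟨-1,1,0,-1,0,0,1,0⟩), (⟨-2,0,-1,0,-1,1,0,-1⟩, ⟨0,1,-1,1,-1,0,0,0⟩, ⟨0,-1,1,-1,1,0,0,0⟩), (⟨-2,0,-1,0,-1,1,0,-1⟩, ⟨0,1,-1,1,-1,0,0,0⟩, ⟨0,1,-1,1,-1,0,0,0⟩), (⟨-2,0,-1,0,1,-1,0,1⟩, ⟨0,0,1,0,1,-1,0,1⟩, ⟨1,0,0,0,0,-1,1,-1⟩), (⟨-2,0,-1,0,1,-1,0,1⟩, ⟨0,0,1,0,1,-1,0,1⟩, ⟨-1,0,0,0,0,1,-1,1⟩), (⟨-2,0,-1,0,1,-1,0,-1⟩, ⟨0,0,1,0,1,-1,0,-1⟩, ⟨1,-1,0,-1,0,0,-1,0⟩), (⟨-2,0,-1,0,1,-1,0,-1⟩, ⟨0,0,1,0,1,-1,0,-1⟩, ⟨-1,1,0,1,0,0,1,0⟩), (⟨-2,0,-1,0,-1,1,0,1⟩, ⟨0,0,1,0,-1,1,0,1⟩, ⟨0,1,1,-1,1,0,0,0⟩), (⟨-2,0,-1,0,-1,1,0,1⟩,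 ⟨0,0,1,0,-1,1,0,1⟩, ⟨0,-1,-1,1,-1,0,0,0⟩), (⟨-2,0,-1,0,-1,1,0,-1⟩, ⟨0,0,1,0,-1,1,0,-1⟩, ⟨0,0,-1,0,1,-1,0,1⟩), (⟨-2,0,-1,0,-1,1,0,-1⟩, ⟨0,0,1,0,-1,1,0,-1⟩, ⟨0,0,1,0,-1,1,0,-1⟩), (⟨-2,0,-1,0,-1,1,0,-1⟩, ⟨-1,1,0,-1,0,0,-1,0⟩, ⟨1,-1,0,1,0,0,1,0⟩), (⟨-2,0,-1,0,-1,1,0,-1⟩, ⟨-1,1,0,-1,0,0,-1,0⟩, ⟨-1,1,0,-1,0,0,-1,0⟩), (⟨-2,0,-1,0,1,-1,0,1⟩, ⟨-1,1,0,-1,0,0,1,0⟩, ⟨0,-1,1,-1,-1,0,0,0⟩), (⟨-2,0,-1,0,1,-1,0,1⟩, ⟨-1,1,0,-1,0,0,1,0⟩, ⟨0,1,-1,1,1,0,0,0⟩), (⟨-2,0,-1,0,1,-1,0,-1⟩, ⟨0,-1,-1,1,1,0,0,0⟩, ⟨1,0,0,0,0,1,1,-1⟩), (⟨-2,0,-1,0,1,-1,0,-1⟩,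 ⟨0,-1,-1,1,1,0,0,0⟩, ⟨-1,0,0,0,0,-1,-1,1⟩), (⟨-2,0,-1,0,-1,1,0,1⟩, ⟨0,-1,-1,1,-1,0,0,0⟩, ⟨0,0,-1,0,1,-1,0,-1⟩), (⟨-2,0,-1,0,-1,1,0,1⟩, ⟨0,-1,-1,1,-1,0,0,0⟩, ⟨0,0,1,0,-1,1,0,1⟩), (⟨-2,0,-1,0,-1,1,0,1⟩, ⟨-1,0,0,0,0,1,1,-1⟩, ⟨1,-1,0,-1,0,0,1,0⟩), (⟨-2,0,-1,0,-1,1,0,1⟩, ⟨-1,0,0,0,0,1,1,-1⟩, ⟨-1,1,0,1,0,0,-1,0⟩), (⟨-2,0,-1,0,-1,1,0,-1⟩, ⟨-1,0,0,0,0,-1,1,-1⟩, ⟨1,0,0,0,0,1,-1,1⟩), (⟨-2,0,-1,0,-1,1,0,-1⟩, ⟨-1,0,0,0,0,-1,1,-1⟩, ⟨-1,0,0,0,0,-1,1,-1⟩), (⟨-2,0,-1,0,1,-1,0,1⟩, ⟨-1,0,0,0,0,1,-1,1⟩, ⟨0,0,-1,0,-1,1,0,-1⟩), (⟨-2,0,-1,0,1,-1,0,1⟩,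 ⟨-1,0,0,0,0,1,-1,1⟩, ⟨0,0,1,0,1,-1,0,1⟩), (⟨-2,0,-1,0,1,-1,0,-1⟩, ⟨-1,0,0,0,0,-1,-1,1⟩, ⟨0,1,1,-1,-1,0,0,0⟩), (⟨-2,0,-1,0,1,-1,0,-1⟩, ⟨-1,0,0,0,0,-1,-1,1⟩, ⟨0,-1,-1,1,1,0,0,0⟩), (⟨-2,0,-2,0,0,0,0,0⟩, ⟨-2,0,-2,0,0,0,0,0⟩, ⟨0,0,0,0,0,0,0,0⟩), (⟨-4,0,0,0,0,0,0,0⟩, ⟨0,0,0,0,0,0,0,0⟩, ⟨0,0,0,0,0,0,0,0⟩)]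

end Cfsg.Agent.Lib.J2Ico.Q8
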